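import Mathlib.CategoryTheory.Adjunction.Additive
import Mathlib.CategoryTheory.Abelian.Exact
import Mathlib.CategoryTheory.Abelian.Refinements
import Mathlib.Algebra.Homology.ShortComplex.HomologicalComplex

/-!
# The Amitsur complex of an adjunction

For `L ⊣ R` with `L` detecting exactness, `0 → F → RL F → RLRL F → ⋯` is exact.
-/

set_option autoImplicit false

universe v v' u u'

open CategoryTheory CategoryTheory.Limits

namespace Groth.Agent.EtDescSS.Amitsur

variable {D : Type u} [Category.{v} D] [Abelian D] {C : Type u'} [Category.{v'} C] [Abelian C]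
  {L : D ⥤ C} {R : C ⥤ D} (adj : L ⊣ R) [L.Additive] [R.Additive] (F : D)

/-- The iterates `(RL)^p F`. -/
def obj (_adj : L ⊣ R) (F : D) : ℕ → D
  | 0 => F
  | p + 1 => R.obj (L.obj (obj _adj F p))

/-- The unit at the `p`th iterate. -/
def η (adj : L ⊣ R) (F : D) (p : ℕ) : obj adj F p ⟶ obj adj F (p + 1) := adj.unit.app (obj adj F p)

/-- The counit at the `p`th iterate. -/
def ε (adj : L ⊣ R) (F : D) (p : ℕ) : L.obj (obj adj F (p + 1)) ⟶ L.obj (obj adj F p) :=
  adj.counit.app (L.obj (obj adj F p))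

/-- The functor `RL` on maps between iterates. -/
def T (adj : L ⊣ R) (F : D) {p q : ℕ} (a : obj adj F p ⟶ obj adj F q) :
    obj adj F (p + 1) ⟶ obj adj F (q + 1) := R.map (L.map a)

theorem η_nat {p q : ℕ} (a : obj adj F p ⟶ obj adj F q) :
    a ≫ η adj F q = η adj F p ≫ T adj F a :=
  adj.unit.naturality a

theorem ε_nat {p q : ℕ} (a : obj adj F p ⟶ obj adj F q) :
    L.map (T adj F a) ≫ ε adj F q = ε adj F p ≫ L.map a :=
  adj.counit.naturality (L.map a)

theorem η_ε (p : ℕ) : L.map (η adj F p) ≫ ε adj F p = 𝟙 _ :=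
  adj.left_triangle_components _

/-- The signed sums of the units. -/
def e (adj : L ⊣ R) (F : D) : ∀ p, obj adj F p ⟶ obj adj F (p + 1)
  | 0 => η adj F 0
  | p + 1 => η adj F (p + 1) - T adj F (e adj F p)

theorem e_zero : e adj F 0 = η adj F 0 := rfl

theorem e_succ (p : ℕ) : e adj F (p + 1) = η adj F (p + 1) - T adj F (e adj F p) := rfl

theorem e_comp_e : ∀ p, e adj F p ≫ e adj F (p + 1) = 0
  | 0 => by
    rw [e_succ, Preadditive.comp_sub, η_nat, ← e_zero, sub_self]
  | p + 1 => by
    have h' : T adj F (e adj F p) ≫ T adj F (e adj F (p + 1)) = 0 := by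
      exact (R.map_comp _ _).symm.trans ((congrArg R.map ((L.map_comp _ _).symm.trans
        ((congrArg L.map (e_comp_e p)).trans (L.map_zero _ _)))).trans (R.map_zero _ _))
    have h2 : e adj F (p + 1) ≫ T adj F (e adj F (p + 1)) =
        η adj F (p + 1) ≫ T adj F (e adj F (p + 1)) := by
      rw [show e adj F (p + 1) = _ from e_succ adj F p, Preadditive.sub_comp, ← e_succ, h', sub_zero]
    rw [e_succ adj F (p + 1), Preadditive.comp_sub, η_nat, h2, sub_self]

/-- The Amitsur complex, starting at `RL F`. -/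
def cx : CochainComplex D ℕ :=
  CochainComplex.of (fun p => obj adj F (p + 1)) (fun p => e adj F (p + 1))
    fun p => e_comp_e adj F (p + 1)

theorem cx_d (p : ℕ) : (cx adj F).d p (p + 1) = e adj F (p + 1) :=
  CochainComplex.of_d _ (fun p => e adj F (p + 1)) p

theorem homotopy_zero : L.map (e adj F 0) ≫ ε adj F 0 = 𝟙 _ := η_ε adj F 0

theorem homotopy_succ (p : ℕ) :
    ε adj F p ≫ L.map (e adj F p) + L.map (e adj F (p + 1)) ≫ ε adj F (p + 1) = 𝟙 _ := by
  rw [e_succ, L.map_sub, Preadditive.sub_comp, ε_nat, η_ε]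
  exact add_sub_cancel _ _

theorem exact_map (p : ℕ) :
    ((ShortComplex.mk _ _ (e_comp_e adj F p)).map L).Exact := by
  rw [ShortComplex.exact_iff_exact_up_to_refinements]
  intro A (x : A ⟶ L.obj (obj adj F (p + 1))) hx
  refine ⟨A, 𝟙 A, inferInstance, x ≫ ε adj F p, ?_⟩
  have hx' : x ≫ L.map (e adj F (p + 1)) = 0 := hx
  have h : x ≫ (ε adj F p ≫ L.map (e adj F p) +
      L.map (e adj F (p + 1)) ≫ ε adj F (p + 1)) = x ≫ 𝟙 _ :=
    congrArg (x ≫ ·) (homotopy_succ adj F p)
  rw [Preadditive.comp_add, reassoc_of% hx', zero_comp, add_zero, Category.comp_id] at h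
  exact (Category.id_comp x).trans (h.symm.trans (Category.assoc _ _ _).symm)

variable (hL : ∀ S : ShortComplex D, (S.map L).Exact → S.Exact)

include hL in
theorem exactAt_succ (p : ℕ) : (cx adj F).ExactAt (p + 1) := by
  rw [HomologicalComplex.exactAt_iff' _ p (p + 1) (p + 1 + 1) (by simp) (by simp)]
  let S := ShortComplex.mk _ _ (e_comp_e adj F (p + 1))
  have e₀ : S ≅ (cx adj F).sc' p (p + 1) (p + 1 + 1) :=
    ShortComplex.isoMk (Iso.refl _) (Iso.refl _) (Iso.refl _)
      ((Category.id_comp _).trans ((cx_d adj F p).trans (Category.comp_id _).symm))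
      ((Category.id_comp _).trans ((cx_d adj F (p + 1)).trans (Category.comp_id _).symm))
  exact (ShortComplex.exact_iff_of_iso e₀).1 (hL _ (exact_map adj F (p + 1)))

include hL in
theorem mono_e_zero : Mono (e adj F 0) := by
  let S : ShortComplex D := ShortComplex.mk (0 : F ⟶ obj adj F 0) (e adj F 0) zero_comp
  have h : S.Exact := by
    apply hL
    have : IsSplitMono (L.map (e adj F 0)) := IsSplitMono.mk' ⟨ε adj F 0, homotopy_zero adj F⟩
    have : Mono (S.map L).g := inferInstanceAs (Mono (L.map (e adj F 0)))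
    exact (ShortComplex.exact_iff_mono _ (L.map_zero _ _)).2 this
  exact (S.exact_iff_mono rfl).1 h

include hL in
theorem nonempty_cycles_iso : Nonempty ((cx adj F).cycles 0 ≅ F) := by
  let S := ShortComplex.mk _ _ (e_comp_e adj F 0)
  have : Mono S.f := mono_e_zero adj F hL
  have h := (hL _ (exact_map adj F 0)).fIsKernel
  let i : (cx adj F).cycles 0 ⟶ S.X₂ := (cx adj F).iCycles 0
  have : Mono i := inferInstanceAs (Mono ((cx adj F).iCycles 0))
  refine ⟨(IsLimit.conePointUniqueUpToIso h (KernelFork.IsLimit.ofι' i (f := S.g)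
    ((congrArg (fun d => (cx adj F).iCycles 0 ≫ d) (cx_d adj F 0).symm).trans
      ((cx adj F).iCycles_d 0 1))
    fun {W} k hk => ⟨(cx adj F).liftCycles k 1 (by simp)
      ((congrArg (k ≫ ·) (cx_d adj F 0)).trans hk),
      (cx adj F).liftCycles_i k 1 (by simp) _⟩)).symm⟩

end Groth.Agent.EtDescSS.Amitsur
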