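import Groth.Agent.EtDescSS.Resolution
import Groth.Agent.EtDescSS.Amitsur
import Groth.Agent.EtaleSite.IntegralBC
import Groth.Agent.EtaleSite.PushIntegral
import Groth.Agent.EtaleSite.Flasque
import Groth.Agent.EtaleSite.HpullComp
import Groth.Agent.EtaleSite.AdjExt
import Groth.Agent.SiteCoh.ExtDerived
import Groth.Prelude.Def_SpSeq
import Mathlib.CategoryTheory.Limits.Shapes.WidePullbacks
import Mathlib.AlgebraicGeometry.Morphisms.Integral

/-!
# The Amitsur resolution on the étale site and the descent spectral sequence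
-/

set_option autoImplicit false

universe u

open CategoryTheory CategoryTheory.Limits AlgebraicGeometry Opposite

namespace Groth.Agent.EtDescSS.Etale

open Groth.Agent.EtaleSite

variable {X Y : Scheme.{u}} (f : X ⟶ Y)

/-- A surjective morphism lets geometric points lift. -/
theorem exists_lift [Surjective f] {Ω : Type u} [Field Ω] (ξ : Spec (CommRingCat.of Ω) ⟶ Y) :
    ∃ (K : Type u) (_ : Field K) (_ : IsSepClosed K)
      (σ : Spec (CommRingCat.of K) ⟶ Spec (CommRingCat.of Ω)) (ζ : Spec (CommRingCat.of K) ⟶ X),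
      ζ ≫ f = σ ≫ ξ := by
  let a : Spec (CommRingCat.of Ω) := default
  obtain ⟨x, -⟩ := (pullback.snd f ξ).surjective a
  exact ⟨_, inferInstance, inferInstance,
    geomPointAt (pullback f ξ) x ≫ pullback.snd f ξ, geomPointAt (pullback f ξ) x ≫ pullback.fst f ξ,
    by rw [Category.assoc, pullback.condition, Category.assoc]⟩

/-- Inverse image along a surjective morphism detects exactness. -/
theorem exact_of_pull [Surjective f] (S : ShortComplex (EtCoh.Ab Y))
    (hS : (S.map (EtCoh.pull f)).Exact) : S.Exact := by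
  rw [exact_iff_stalk] at hS ⊢
  intro Ω _ _ ξ
  obtain ⟨K, _, _, σ, ζ, w⟩ := exists_lift f ξ
  have h := hS K ζ
  have h1 : (S.map (EtCoh.stalk (ζ ≫ f))).Exact :=
    (ShortComplex.exact_iff_of_iso (S.mapNatIso (stalkPullIso f ζ))).1 h
  rw [w] at h1
  exact (ShortComplex.exact_iff_of_iso (S.mapNatIso (stalkExtIso σ ξ))).2 h1

/-- Cohomology of a direct image along an integral morphism. -/
theorem nonempty_H_push_iso [IsIntegralHom f] (G : EtCoh.Ab X) (q : ℕ) :
    Nonempty (AddCommGrpCat.of (EtCoh.H Y ((EtCoh.push f).obj G) q) ≅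
      AddCommGrpCat.of (EtCoh.H X G q)) := by
  have hb := AdjExt.toExt_bijective (EtCoh.pullPushAdj f) q (EtCoh.const Y ℤ) G fun n hn => by
    obtain ⟨k, rfl⟩ : ∃ k, n = k + 1 := ⟨n - 1, by omega⟩
    exact Flasque.isZero_rightDerived_of_exact _ k G
  let φ : EtCoh.H Y ((EtCoh.push f).obj G) q →+
      Abelian.Ext ((EtCoh.pull f).obj (EtCoh.const Y ℤ)) G q :=
    AddMonoidHom.mk' (AdjExt.toExt (EtCoh.pullPushAdj f) (EtCoh.const Y ℤ) G q) fun a b => by
      simp only [AdjExt.toExt, Abelian.Ext.mapExactFunctor_add, Abelian.Ext.add_comp]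
  let ψ : Abelian.Ext ((EtCoh.pull f).obj (EtCoh.const Y ℤ)) G q →+ EtCoh.H X G q :=
    AddMonoidHom.mk' (fun x => (Abelian.Ext.mk₀ (EtCore.pullConst f ℤ).inv).comp x (zero_add q))
      fun a b => Abelian.Ext.comp_add _ _ _ _
  have hψ : Function.Bijective ψ := by
    refine Function.bijective_iff_has_inverse.2
      ⟨fun x => (Abelian.Ext.mk₀ (EtCore.pullConst f ℤ).hom).comp x (zero_add q), ?_, ?_⟩ <;>
    · intro x
      simp [ψ]
  exact ⟨((AddEquiv.ofBijective φ hb).trans (AddEquiv.ofBijective ψ hψ)).toAddCommGrpIso⟩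

/-- Cohomology of inverse images is invariant under isomorphisms over the base. -/
theorem nonempty_H_pull_iso_of_iso {Z Z' : Scheme.{u}} (e : Z ≅ Z') (b : Z ⟶ Y) (b' : Z' ⟶ Y)
    (w : e.hom ≫ b' = b) (F : EtCoh.Ab Y) (q : ℕ) :
    Nonempty (AddCommGrpCat.of (EtCoh.H Z ((EtCoh.pull b).obj F) q) ≅
      AddCommGrpCat.of (EtCoh.H Z' ((EtCoh.pull b').obj F) q)) := by
  let e₁ : AddCommGrpCat.of (EtCoh.H Z' ((EtCoh.pull b').obj F) q) ≅
      AddCommGrpCat.of (EtCoh.H Z ((EtCoh.pull e.hom).obj ((EtCoh.pull b').obj F)) q) :=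
    (AddEquiv.ofBijective (EtCore.Hpull e.hom ((EtCoh.pull b').obj F) q)
      (HpullComp.Hpull_bijective_of_isIso e.hom q _)).toAddCommGrpIso
  exact ⟨((EtCoh.HF Z q).mapIso (((EtCore.pullComp e.hom b').app F).symm ≪≫
    (EtCore.pullCongr w).app F)).symm ≪≫ e₁.symm⟩

/-- `X_{n+1} = X_n ×_Y X`. -/
noncomputable def succIso (n : ℕ) :
    pullback (WidePullback.base (fun _ : Fin (n + 1) => f) :
        widePullback Y (fun _ : Fin (n + 1) => X) (fun _ => f) ⟶ Y) f ≅
      widePullback Y (fun _ : Fin (n + 2) => X) (fun _ => f) where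
  hom := WidePullback.lift (pullback.snd _ f ≫ f)
    (fun i => Fin.cases (pullback.snd _ f) (fun j => pullback.fst _ f ≫ WidePullback.π _ j) i)
    (fun i => by
      induction i using Fin.cases with
      | zero => rw [Fin.cases_zero]
      | succ j => rw [Fin.cases_succ, Category.assoc, WidePullback.π_arrow, pullback.condition])
  inv := pullback.lift
    (WidePullback.lift (WidePullback.base _) (fun j => WidePullback.π _ (Fin.succ j))
      (fun j => WidePullback.π_arrow _ _))
    (WidePullback.π _ 0) (by rw [WidePullback.lift_base, WidePullback.π_arrow])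
  hom_inv_id := by
    apply pullback.hom_ext
    · rw [Category.assoc, pullback.lift_fst, Category.id_comp]
      refine WidePullback.hom_ext _ _ _ (fun j => ?_) ?_
      · rw [Category.assoc, WidePullback.lift_π, WidePullback.lift_π, Fin.cases_succ]
      · rw [Category.assoc, WidePullback.lift_base, WidePullback.lift_base, pullback.condition]
    · rw [Category.assoc, pullback.lift_snd, Category.id_comp, WidePullback.lift_π, Fin.cases_zero]
  inv_hom_id := by
    refine WidePullback.hom_ext _ _ _ (fun i => ?_) ?_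
    · rw [Category.assoc, WidePullback.lift_π, Category.id_comp]
      induction i using Fin.cases with
      | zero => rw [Fin.cases_zero, pullback.lift_snd]
      | succ j => rw [Fin.cases_succ, pullback.lift_fst_assoc, WidePullback.lift_π]
    · exact (Category.assoc _ _ _).trans ((congrArg (_ ≫ ·) (WidePullback.lift_base _ _ _ _)).trans
        ((pullback.lift_snd_assoc _ _ _ f).trans
          ((WidePullback.π_arrow _ _).trans (Category.id_comp _).symm)))

theorem succIso_base (n : ℕ) : (succIso f n).hom ≫ WidePullback.base (fun _ : Fin (n + 2) => f) =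
    pullback.snd _ f ≫ f :=
  WidePullback.lift_base _ _ _ _

/-- `X_0 = X`. -/
noncomputable def zeroIso : X ≅ widePullback Y (fun _ : Fin 1 => X) (fun _ => f) where
  hom := WidePullback.lift f (fun _ => 𝟙 X) (fun _ => Category.id_comp f)
  inv := WidePullback.π _ 0
  hom_inv_id := WidePullback.lift_π _ _ _ _ _
  inv_hom_id := by
    refine WidePullback.hom_ext _ _ _ (fun i => ?_) ?_
    · obtain rfl : i = 0 := Subsingleton.elim _ _
      rw [Category.assoc, WidePullback.lift_π, Category.comp_id, Category.id_comp]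
    · rw [Category.assoc, WidePullback.lift_base, Category.id_comp, WidePullback.π_arrow]

theorem zeroIso_base : (zeroIso f).hom ≫ WidePullback.base (fun _ : Fin 1 => f) = f :=
  WidePullback.lift_base _ _ _ _

variable (F : EtCoh.Ab Y)

/-- The terms of the Amitsur complex of `f^* ⊣ f_*` are direct images from the fibre powers. -/
theorem exists_term_iso [IsIntegralHom f] (p : ℕ) :
    ∃ (Z : Scheme.{u}) (b : Z ⟶ Y), IsIntegralHom b ∧
      (∃ e : Z ≅ widePullback Y (fun _ : Fin (p + 1) => X) (fun _ => f),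
        e.hom ≫ WidePullback.base (fun _ : Fin (p + 1) => f) = b) ∧
      Nonempty (Amitsur.obj (EtCoh.pullPushAdj f) F (p + 1) ≅
        (EtCoh.push b).obj ((EtCoh.pull b).obj F)) := by
  induction p with
  | zero => exact ⟨X, f, inferInstance, ⟨zeroIso f, zeroIso_base f⟩, ⟨Iso.refl _⟩⟩
  | succ p ih =>
    obtain ⟨Z, b, hb, ⟨e, he⟩, ⟨φ⟩⟩ := ih
    haveI := hb
    let g' := pullback.fst b f
    let f' := pullback.snd b f
    have hbc := isIso_baseChange0_integral b f f' g' (IsPullback.of_hasPullback b f)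
      ((EtCoh.pull b).obj F)
    let β := @asIso _ _ _ _ _ hbc
    let γ : (EtCoh.pull g').obj ((EtCoh.pull b).obj F) ≅ (EtCoh.pull (f' ≫ f)).obj F :=
      (EtCore.pullComp g' b).symm.app F ≪≫ (EtCore.pullCongr pullback.condition).app F
    let ψ : Amitsur.obj (EtCoh.pullPushAdj f) F (p + 1 + 1) ≅
        (EtCoh.push (f' ≫ f)).obj ((EtCoh.pull (f' ≫ f)).obj F) :=
      (EtCoh.push f).mapIso ((EtCoh.pull f).mapIso φ ≪≫ β ≪≫ (EtCoh.push f').mapIso γ) ≪≫
        (EtCoh.pushComp f f').app _
    refine ⟨pullback b f, f' ≫ f, inferInstance, ⟨asIso (pullback.map b f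
      (WidePullback.base (fun _ : Fin (p + 1) => f)) f e.hom (𝟙 X) (𝟙 Y)
        (by rw [Category.comp_id, he]) (by rw [Category.comp_id, Category.id_comp])) ≪≫ succIso f p,
      ?_⟩, ⟨ψ⟩⟩
    rw [Iso.trans_hom, Category.assoc, succIso_base, asIso_hom, pullback.lift_snd_assoc,
      Category.assoc, Category.id_comp]

/-- **The descent spectral sequence of an integral surjective morphism.** -/
theorem exists_ss [IsIntegralHom f] [Surjective f] :
    ∃ (E : CohomologicalSpectralSequence AddCommGrpCat.{u + 1} 1)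
      (a : SpSeq.Abutment E (fun n : ℤ =>
        if 0 ≤ n then AddCommGrpCat.of (EtCoh.H Y F n.toNat) else AddCommGrpCat.of PUnit.{u + 2})),
      (∀ n, a.IsFinite n) ∧ SpSeq.IsBounded E ∧
      ∀ p q : ℤ, Nonempty ((E.page 1 le_rfl).X (p, q) ≅
        (if 0 ≤ p ∧ 0 ≤ q then
          AddCommGrpCat.of (EtCoh.H (widePullback Y (fun _ : Fin (p.toNat + 1) => X) (fun _ => f))
            ((EtCoh.pull (WidePullback.base (fun _ : Fin (p.toNat + 1) => f) :
              widePullback Y (fun _ : Fin (p.toNat + 1) => X) (fun _ => f) ⟶ Y)).obj F) q.toNat)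
         else AddCommGrpCat.of PUnit.{u + 2})) := by
  have hL := fun S hS => exact_of_pull f S hS
  obtain ⟨eM⟩ := Amitsur.nonempty_cycles_iso (EtCoh.pullPushAdj f) F hL
  refine Resolution.exists_ss (Amitsur.exactAt_succ (EtCoh.pullPushAdj f) F hL)
    (preadditiveCoyoneda.obj (Opposite.op (EtCoh.const Y ℤ))) eM
    (fun n => AddCommGrpCat.of (EtCoh.H Y F n))
    (fun n => SiteCoh.ExtDerived.nonempty_rightDerived_iso (EtCoh.const Y ℤ) F n)
    (fun p q => AddCommGrpCat.of (EtCoh.H (widePullback Y (fun _ : Fin (p + 1) => X) (fun _ => f))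
      ((EtCoh.pull (WidePullback.base (fun _ : Fin (p + 1) => f) :
        widePullback Y (fun _ : Fin (p + 1) => X) (fun _ => f) ⟶ Y)).obj F) q))
    fun p q => ?_
  obtain ⟨Z, b, hb, ⟨e, he⟩, ⟨φ⟩⟩ := exists_term_iso f F p
  haveI := hb
  obtain ⟨e₁⟩ := SiteCoh.ExtDerived.nonempty_rightDerived_iso (EtCoh.const Y ℤ)
    ((Amitsur.cx (EtCoh.pullPushAdj f) F).X p) q
  obtain ⟨e₂⟩ := nonempty_H_push_iso b ((EtCoh.pull b).obj F) q
  obtain ⟨e₃⟩ := nonempty_H_pull_iso_of_iso e b (WidePullback.base (fun _ : Fin (p + 1) => f)) he F q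
  exact ⟨e₁ ≪≫ (EtCoh.HF Y q).mapIso φ ≪≫ e₂ ≪≫ e₃⟩

end Groth.Agent.EtDescSS.Etale
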