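import Groth.Agent.EtColim.TorsionPush
import Groth.Agent.EtaleSite.AdjExt
import Groth.Agent.EtaleSite.HpullSeq
import Groth.Agent.EtaleSite.Pull
import Groth.Agent.EtaleSite.Flasque
import Groth.Prelude.Def_EtBC2
import Groth.Prelude.Def_EtAcyc

/-!
# Comparison conditions and base change

If `h` satisfies the comparison condition up to degree `n` and base change holds for `p` up to
degree `n`, then the base change `hb` of `h` satisfies it.
-/

set_option autoImplicit false

universe u

open CategoryTheory CategoryTheory.Limits AlgebraicGeometry Opposite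

namespace Groth.Agent.EtDescSS.CompBC

open Groth.Agent.EtaleSite Groth.Agent.EtColim

section Bounded

open Groth.Agent.EtaleSite.AdjExt

universe w w' v v' a a'

variable {C : Type a} [Category.{v} C] [Abelian C] [EnoughInjectives C] [HasExt.{w} C]
  {D : Type a'} [Category.{v'} D] [Abelian D] [HasExt.{w'} D]
  {L : D ⥤ C} [L.Additive] [PreservesFiniteLimits L] [PreservesFiniteColimits L]
  {R : C ⥤ D} [R.Additive] [PreservesFiniteLimits R]
  (adj : L ⊣ R)

/-- `Ext^n(A, R F) → Ext^n(L A, F)` is bijective when `R^q F = 0` for `1 ≤ q ≤ n`. -/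
theorem toExt_bijective_bounded (n : ℕ) : ∀ (A : D) (F : C),
    (∀ q : ℕ, 0 < q → q ≤ n → IsZero ((R.rightDerived q).obj F)) →
    Function.Bijective (toExt adj A F n) := by
  induction n with
  | zero =>
    intro A F _
    have h : toExt adj A F 0 = Abelian.Ext.mk₀ ∘ (adj.homEquiv A F).symm ∘
        Abelian.Ext.homEquiv₀ := by
      funext e
      obtain ⟨f, rfl⟩ := Abelian.Ext.homEquiv₀.symm.surjective e
      simp only [Function.comp_apply, Equiv.apply_symm_apply, Adjunction.homEquiv_counit]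
      simp [toExt, Abelian.Ext.mapExactFunctor_mk₀, Abelian.Ext.mk₀_comp_mk₀]
    rw [h]
    exact (Abelian.Ext.mk₀_bijective _ _).comp
      ((adj.homEquiv A F).symm.bijective.comp Abelian.Ext.homEquiv₀.bijective)
  | succ n ih =>
    intro A F hF
    let S : ShortComplex C := ShortComplex.mk (Injective.ι F) (cokernel.π _) (cokernel.condition _)
    have hS : S.ShortExact := { exact := ShortComplex.exact_cokernel _ }
    have hI : Injective S.X₂ := inferInstanceAs (Injective (Injective.under F))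
    let les := RDerLES.derivedLES R
    have zI : ∀ q : ℕ, 0 < q → IsZero ((R.rightDerived q).obj S.X₂) := fun q hq => by
      obtain ⟨k, rfl⟩ : ∃ k, q = k + 1 := ⟨q - 1, by omega⟩
      exact Functor.isZero_rightDerived_obj_injective_succ R k _
    have zQ : ∀ q : ℕ, 0 < q → q ≤ n → IsZero ((R.rightDerived q).obj S.X₃) := fun q hq hqn =>
      (les.exact₃ S hS q (q + 1) rfl).isZero_of_both_zeros
        ((zI q hq).eq_of_src _ _) ((hF (q + 1) (by omega) (by omega)).eq_of_tgt _ _)
    have hRS : (S.map R).ShortExact := by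
      have := hS.mono_f
      have hex : (S.map R).Exact := hS.exact.map_of_mono_of_preservesKernel R hS.mono_f inferInstance
      have hm : Mono (R.map S.f) := R.map_mono S.f
      have he : Epi ((R.rightDerived 0).map S.g) :=
        (les.exact₃ S hS 0 1 rfl).epi_f ((hF 1 (by omega) (by omega)).eq_of_tgt _ _)
      have he' : Epi (R.map S.g) := by
        have hnat := (R.rightDerivedZeroIsoSelf).hom.naturality S.g
        have : R.map S.g = (R.rightDerivedZeroIsoSelf).inv.app S.X₂ ≫ (R.rightDerived 0).map S.g ≫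
            (R.rightDerivedZeroIsoSelf).hom.app S.X₃ := by
          simp [hnat]
        rw [this]
        infer_instance
      exact { exact := hex, mono_f := hm, epi_g := he' }
    have hRI : Injective (S.map R).X₂ := Injective.injective_of_adjoint adj S.X₂
    constructor
    · rw [show toExt adj A F (n + 1) = AddMonoidHom.mk' (toExt adj A F (n + 1)) (fun a b => by
        simp [toExt, Abelian.Ext.mapExactFunctor_add, Abelian.Ext.add_comp]) from rfl,
        injective_iff_map_eq_zero]
      intro e he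
      obtain ⟨x, hx⟩ := Abelian.Ext.covariant_sequence_exact₁ A hRS e
        (Abelian.Ext.eq_zero_of_injective _) (rfl : n + 1 = n + 1)
      have h0 : (toExt adj A S.X₃ n x).comp hS.extClass rfl = 0 := by
        refine (toExt_comp_extClass adj hS hRS x).symm.trans ?_
        exact (congrArg (toExt adj A S.X₁ (n + 1)) hx).trans he
      obtain ⟨z, hz⟩ := Abelian.Ext.covariant_sequence_exact₃ (L.obj A) hS _ rfl h0
      obtain ⟨z', rfl⟩ := (ih A S.X₂ fun q hq _ => zI q hq).2 z
      rw [← toExt_comp_mk₀] at hz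
      obtain rfl := (ih A S.X₃ zQ).1 hz
      rw [← hx]
      refine (Abelian.Ext.comp_assoc_of_second_deg_zero z' (Abelian.Ext.mk₀ (S.map R).g)
        hRS.extClass rfl).trans ?_
      refine (congrArg (fun z => Abelian.Ext.comp z' z rfl) hRS.comp_extClass).trans ?_
      exact Abelian.Ext.comp_zero _ _ _ _ _
    · intro y
      obtain ⟨x, hx⟩ := Abelian.Ext.covariant_sequence_exact₁ (L.obj A) hS y
        (Abelian.Ext.eq_zero_of_injective _) (rfl : n + 1 = n + 1)
      obtain ⟨x', rfl⟩ := (ih A S.X₃ zQ).2 x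
      exact ⟨x'.comp hRS.extClass rfl, (toExt_comp_extClass adj hS hRS x').trans hx⟩

end Bounded

variable {X Y : Scheme.{u}} (f : X ⟶ Y)

/-- Cohomology of `f_* F` is cohomology of `F` when the higher direct images vanish up to `n`. -/
theorem nonempty_H_push_equiv (F : EtCoh.Ab X) (n : ℕ)
    (hF : ∀ q : ℕ, 0 < q → q ≤ n → IsZero ((EtCoh.Rpush f q).obj F)) :
    Nonempty (EtCoh.H Y ((EtCoh.push f).obj F) n ≃ EtCoh.H X F n) := by
  have hψ : Function.Bijective (fun x : Abelian.Ext ((EtCoh.pull f).obj (EtCoh.const Y ℤ)) F n =>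
      (Abelian.Ext.mk₀ (EtCore.pullConst f ℤ).inv).comp x (zero_add n)) := by
    refine Function.bijective_iff_has_inverse.2
      ⟨fun x => (Abelian.Ext.mk₀ (EtCore.pullConst f ℤ).hom).comp x (zero_add n), ?_, ?_⟩ <;>
    · intro x
      simp
  exact ⟨(Equiv.ofBijective _
    (toExt_bijective_bounded (EtCoh.pullPushAdj f) n (EtCoh.const Y ℤ) F hF)).trans
      (Equiv.ofBijective _ hψ)⟩

theorem subsingleton_H_push_iff (F : EtCoh.Ab X) (n : ℕ)
    (hF : ∀ q : ℕ, 0 < q → q ≤ n → IsZero ((EtCoh.Rpush f q).obj F)) :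
    Subsingleton (EtCoh.H Y ((EtCoh.push f).obj F) n) ↔ Subsingleton (EtCoh.H X F n) := by
  obtain ⟨e⟩ := nonempty_H_push_equiv f F n hF
  exact ⟨fun _ => e.symm.subsingleton, fun _ => e.subsingleton⟩

theorem subsingleton_H_of_iso {F G : EtCoh.Ab X} (e : F ≅ G) (n : ℕ)
    [Subsingleton (EtCoh.H X F n)] : Subsingleton (EtCoh.H X G n) :=
  @Equiv.subsingleton _ _ ((EtCoh.HF X n).mapIso e).symm.addCommGroupIsoToAddEquiv.toEquiv
    (inferInstanceAs (Subsingleton (EtCoh.H X F n)))

/-- `H^q` of the torsion part of an injective sheaf vanishes. -/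
theorem subsingleton_H_kernel [CompactSpace X] [QuasiSeparatedSpace X] (L : Set ℕ) (I : EtCoh.Ab X)
    [Injective I] (q : ℕ) :
    Subsingleton (EtCoh.H X (kernel (TorsionPush.toLoc L I)) (q + 1)) := by
  haveI : CompactSpace (EtCoh.top X).left := inferInstanceAs (CompactSpace X)
  haveI : QuasiSeparatedSpace (EtCoh.top X).left := inferInstanceAs (QuasiSeparatedSpace X)
  have hS := TorsionPush.torsSeq_shortExact L I
  refine subsingleton_of_forall_eq 0 fun x => ?_
  obtain ⟨x₃, hx⟩ := Abelian.Ext.covariant_sequence_exact₁ _ hS x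
    (Abelian.Ext.eq_zero_of_injective (I := I) _) (rfl : q + 1 = q + 1)
  rw [← hx]
  rcases q with _ | q
  · obtain ⟨s, hs⟩ := TorsionPush.surjective_toLoc L I (EtCoh.top X)
      (Sheaf.H.equiv₀ (TorsionPush.loc L I) (EtCore.topIsTerminal X) x₃)
    have h3 : x₃ = Sheaf.H.map (TorsionPush.toLoc L I) 0
        ((Sheaf.H.equiv₀ I (EtCore.topIsTerminal X)).symm s) :=
      (Sheaf.H.equiv₀ (TorsionPush.loc L I) (EtCore.topIsTerminal X)).injective (by
        rw [← Sheaf.H.equiv₀_naturality, AddEquiv.apply_symm_apply, hs])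
    rw [h3, Sheaf.H.map_apply, Abelian.Ext.comp_assoc_of_second_deg_zero]
    exact (congrArg (fun k => Abelian.Ext.comp _ k (zero_add 1)) hS.comp_extClass).trans
      (Abelian.Ext.comp_zero _ _ _ _ _)
  · have := CohColim.IsCompactAcyclic.subsingleton_H q (TorsionPush.isCompactAcyclic_loc L I)
    rw [show x₃ = 0 from Subsingleton.elim (α := EtCoh.H X (TorsionPush.loc L I) (q + 1)) _ _,
      Abelian.Ext.zero_comp]

/-- An `L`-torsion sheaf embeds into the torsion part of an injective sheaf. -/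
theorem exists_embedding (L : Set ℕ) {F : EtCoh.Ab X} (hF : EtAcyc.IsLTorsion L F) :
    ∃ S : ShortComplex (EtCoh.Ab X), S.X₁ = F ∧ S.ShortExact ∧ EtAcyc.IsLTorsion L S.X₃ ∧
      ∃ I : EtCoh.Ab X, Injective I ∧ S.X₂ = kernel (TorsionPush.toLoc L I) := by
  let I := Injective.under F
  let ι : F ⟶ kernel (TorsionPush.toLoc L I) :=
    kernel.lift _ (Injective.ι F) (TorsionPush.toLoc_eq_zero L I hF _)
  have : Mono ι := mono_of_mono_fac (kernel.lift_ι _ _ _)
  exact ⟨ShortComplex.mk ι (cokernel.π ι) (cokernel.condition _), rfl,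
    { exact := ShortComplex.exact_of_g_is_cokernel _ (cokernelIsCokernel _)
      mono_f := this
      epi_g := inferInstanceAs (Epi (cokernel.π ι)) },
    TorsionPush.isLTorsion_of_epi L (cokernel.π ι) (TorsionPush.isLTorsion_kernel L I),
    I, inferInstance, rfl⟩

/-- In degree zero `Hpull` is the functor on morphisms. -/
theorem bijective_Hpull_zero_iff [PreservesFiniteLimits (EtCoh.pull f)] (F : EtCoh.Ab Y) :
    Function.Bijective (EtCore.Hpull f F 0) ↔
      Function.Bijective (fun k : EtCoh.const Y ℤ ⟶ F => (EtCoh.pull f).map k) := by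
  have hψ : Function.Bijective (fun x : Abelian.Ext ((EtCoh.pull f).obj (EtCoh.const Y ℤ))
      ((EtCoh.pull f).obj F) 0 =>
      (Abelian.Ext.mk₀ (EtCore.pullConst f ℤ).inv).comp x (zero_add 0)) := by
    refine Function.bijective_iff_has_inverse.2
      ⟨fun x => (Abelian.Ext.mk₀ (EtCore.pullConst f ℤ).hom).comp x (zero_add 0), ?_, ?_⟩ <;>
    · intro x
      simp
  have : ⇑(EtCore.Hpull f F 0) = ((fun x : Abelian.Ext ((EtCoh.pull f).obj (EtCoh.const Y ℤ))
      ((EtCoh.pull f).obj F) 0 =>
      (Abelian.Ext.mk₀ (EtCore.pullConst f ℤ).inv).comp x (zero_add 0)) ∘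
        Abelian.Ext.homEquiv₀.symm) ∘ (fun k : EtCoh.const Y ℤ ⟶ F => (EtCoh.pull f).map k) ∘
          Abelian.Ext.homEquiv₀ := funext fun e => by
    obtain ⟨k, rfl⟩ := Abelian.Ext.homEquiv₀.symm.surjective e
    simp only [Function.comp_apply, Equiv.apply_symm_apply, Abelian.Ext.homEquiv₀_symm_apply]
    rw [← Abelian.Ext.homEquiv₀_symm_apply, Equiv.apply_symm_apply, Abelian.Ext.homEquiv₀_symm_apply]
    exact congrArg (fun x => (Abelian.Ext.mk₀ (EtCore.pullConst f ℤ).inv).comp x (zero_add 0))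
      (Abelian.Ext.mapExactFunctor_mk₀ _ _)
  rw [this, Function.Bijective.of_comp_iff' (hψ.comp Abelian.Ext.homEquiv₀.symm.bijective),
    Function.Bijective.of_comp_iff _ Abelian.Ext.homEquiv₀.bijective]

/-- `f^*` on morphisms is composition with the unit. -/
theorem bijective_map_iff (A F : EtCoh.Ab Y) :
    Function.Bijective (fun k : A ⟶ F => (EtCoh.pull f).map k) ↔
      Function.Bijective (fun k : A ⟶ F => k ≫ (EtCoh.pullPushAdj f).unit.app F) := by
  have : (fun k : A ⟶ F => k ≫ (EtCoh.pullPushAdj f).unit.app F) =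
      (EtCoh.pullPushAdj f).homEquiv _ _ ∘ fun k : A ⟶ F => (EtCoh.pull f).map k := funext fun k =>
    ((EtCoh.pullPushAdj f).unit.naturality k).trans
      ((EtCoh.pullPushAdj f).homEquiv_unit _ _ _).symm
  rw [this, Function.Bijective.of_comp_iff' ((EtCoh.pullPushAdj f).homEquiv _ _).bijective]

theorem bijective_map_congr {A A' F : EtCoh.Ab Y} (e : A ≅ A') :
    Function.Bijective (fun k : A ⟶ F => (EtCoh.pull f).map k) ↔
      Function.Bijective (fun k : A' ⟶ F => (EtCoh.pull f).map k) := by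
  have : (fun k : A ⟶ F => (EtCoh.pull f).map k) =
      (fun m : (EtCoh.pull f).obj A' ⟶ (EtCoh.pull f).obj F => (EtCoh.pull f).map e.hom ≫ m) ∘
        (fun k : A' ⟶ F => (EtCoh.pull f).map k) ∘ (fun k : A ⟶ F => e.inv ≫ k) := funext fun k => by
    simp [← Functor.map_comp]
  rw [this, Function.Bijective.of_comp_iff', Function.Bijective.of_comp_iff]
  · exact Function.bijective_iff_has_inverse.2 ⟨fun k => e.hom ≫ k, fun k => by simp, fun k => by simp⟩
  · exact Function.bijective_iff_has_inverse.2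
      ⟨fun m => (EtCoh.pull f).map e.inv ≫ m,
        fun m => by simp [← Category.assoc, ← Functor.map_comp],
        fun m => by simp [← Category.assoc, ← Functor.map_comp]⟩

variable {Xb Yb : Scheme.{u}} (h : Y ⟶ X) (p : Xb ⟶ X) (hb : Yb ⟶ Xb) (pY : Yb ⟶ Y)
  (w : hb ≫ p = pY ≫ h)

/-- `bcQ` in degree zero is the degree zero base change map. -/
theorem isIso_baseChange0_of_bcQ [PreservesFiniteLimits (EtCoh.pull hb)] (F : EtCoh.Ab Xb)
    (hi : IsIso (EtBC.bcQ p h pY hb w 0 F)) : IsIso (EtCoh.baseChange0 p h pY hb w F) := by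
  have hadj : (EtCoh.push p).toRightDerivedZero.app F ≫ EtBC.bcQAdj p h pY hb w 0 F =
      ((EtCoh.push p).map ((EtCoh.pullPushAdj hb).unit.app F) ≫ (EtCoh.pushComp p hb).hom.app _ ≫
        (EtCoh.pushCongr w).hom.app _ ≫ (EtCoh.pushComp h pY).inv.app _) ≫
        (EtCoh.push h).map ((EtCoh.push pY).toRightDerivedZero.app ((EtCoh.pull hb).obj F)) := by
    dsimp only [EtBC.bcQAdj, EtBC.RpushSquareIso, Functor.comp_obj, EtCoh.Rpush]
    rw [← (EtCoh.push p).toRightDerivedZero.naturality_assoc, RDer.toRightDerivedZero_edgeIn_assoc,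
      RDer.toRightDerivedZero_rightDerivedIso_assoc, RDer.toRightDerivedZero_edgeOut]
    simp only [Iso.trans_hom, Iso.symm_hom, NatTrans.comp_app, Category.assoc]
  have key : (EtCoh.pull h).map ((EtCoh.push p).toRightDerivedZero.app F) ≫
      EtBC.bcQ p h pY hb w 0 F = EtCoh.baseChange0 p h pY hb w F ≫
        (EtCoh.push pY).toRightDerivedZero.app ((EtCoh.pull hb).obj F) := by
    dsimp only [EtBC.bcQ, EtCoh.baseChange0]
    rw [← Adjunction.homEquiv_naturality_left_symm, hadj, Adjunction.homEquiv_naturality_right_symm]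
  have : IsIso (EtCoh.baseChange0 p h pY hb w F ≫
      (EtCoh.push pY).toRightDerivedZero.app ((EtCoh.pull hb).obj F)) := key ▸ inferInstance
  exact IsIso.of_isIso_comp_right _ ((EtCoh.push pY).toRightDerivedZero.app ((EtCoh.pull hb).obj F))

/-- The comparison in degree zero descends along a base change isomorphism. -/
theorem bijective_Hpull_zero [PreservesFiniteLimits (EtCoh.pull h)]
    [PreservesFiniteLimits (EtCoh.pull hb)] (F : EtCoh.Ab Xb)
    (hi : IsIso (EtCoh.baseChange0 p h pY hb w F))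
    (hh : Function.Bijective (EtCore.Hpull h ((EtCoh.push p).obj F) 0)) :
    Function.Bijective (EtCore.Hpull hb F 0) := by
  rw [bijective_Hpull_zero_iff, bijective_map_iff] at hh
  rw [bijective_Hpull_zero_iff, ← bijective_map_congr hb (EtCore.pullConst p ℤ), bijective_map_iff]
  let A := EtCoh.const X ℤ
  let η := (EtCoh.pullPushAdj hb).unit.app F
  let θ := (EtCoh.pushComp p hb ≪≫ EtCoh.pushCongr w ≪≫ (EtCoh.pushComp h pY).symm).app
    ((EtCoh.pull hb).obj F)
  have e1 : (EtCoh.pullPushAdj h).unit.app ((EtCoh.push p).obj F) ≫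
      (EtCoh.push h).map (EtCoh.baseChange0 p h pY hb w F) = (EtCoh.push p).map η ≫ θ.hom := by
    exact ((EtCoh.pullPushAdj h).homEquiv_unit _ _ _).symm.trans
      (((EtCoh.pullPushAdj h).homEquiv _ _).apply_symm_apply _)
  have h1 : Function.Bijective (fun g : A ⟶ (EtCoh.push p).obj F => g ≫ (EtCoh.push p).map η) := by
    have : (fun g : A ⟶ (EtCoh.push p).obj F => g ≫ (EtCoh.push p).map η) =
        (fun m => m ≫ (EtCoh.push h).map (EtCoh.baseChange0 p h pY hb w F) ≫ θ.inv) ∘
          fun g : A ⟶ (EtCoh.push p).obj F =>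
            g ≫ (EtCoh.pullPushAdj h).unit.app ((EtCoh.push p).obj F) := funext fun g => by
      simp only [Function.comp_apply, Category.assoc, reassoc_of% e1, Iso.hom_inv_id]
      exact congrArg (g ≫ ·) (Category.comp_id _).symm
    rw [this]
    exact (Function.bijective_iff_has_inverse.2
      ⟨fun m => m ≫ θ.hom ≫ inv ((EtCoh.push h).map (EtCoh.baseChange0 p h pY hb w F)),
        fun m => by simp, fun m => by simp⟩).comp hh
  have e2 : (fun k : (EtCoh.pull p).obj A ⟶ F => k ≫ η) =
      ((EtCoh.pullPushAdj p).homEquiv _ _).symm ∘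
        (fun g : A ⟶ (EtCoh.push p).obj F => g ≫ (EtCoh.push p).map η) ∘
          (EtCoh.pullPushAdj p).homEquiv _ _ := funext fun k => by
    simp only [Function.comp_apply, ← Adjunction.homEquiv_naturality_right, Equiv.symm_apply_apply]
  show Function.Bijective (fun k : (EtCoh.pull p).obj A ⟶ F => k ≫ η)
  rw [e2]
  exact ((EtCoh.pullPushAdj p).homEquiv _ _).symm.bijective.comp
    (h1.comp ((EtCoh.pullPushAdj p).homEquiv _ _).bijective)

variable [CompactSpace Xb] [QuasiSeparatedSpace Xb] [QuasiSeparatedSpace X] (L : Set ℕ) (n : ℕ)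
  (hh : EtAcyc.CompN h L n) [PreservesFiniteLimits (EtCoh.pull hb)]
  (hbc : ∀ Fb : EtCoh.Ab Xb, EtAcyc.IsLTorsion L Fb →
    (∀ i : ℕ, i ≤ n → IsIso (EtBC.bcQ p h pY hb w i Fb)))

include hh hbc in
/-- The inverse image of the torsion part of an injective sheaf is acyclic up to degree `n`. -/
theorem subsingleton_H_pull_kernel (I : EtCoh.Ab Xb) [Injective I] (i : ℕ) (hi : 0 < i) (hin : i ≤ n) :
    Subsingleton (EtCoh.H Yb ((EtCoh.pull hb).obj (kernel (TorsionPush.toLoc L I))) i) := by
  let K := kernel (TorsionPush.toLoc L I)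
  have hR : ∀ q : ℕ, 0 < q → IsZero ((EtCoh.Rpush p q).obj K) := fun q hq => by
    obtain ⟨k, rfl⟩ : ∃ k, q = k + 1 := ⟨q - 1, by omega⟩
    exact TorsionPush.isZero_Rpush_kernel L I p k
  have hT := TorsionPush.isLTorsion_kernel L I
  have hRY : ∀ q : ℕ, 0 < q → q ≤ i → IsZero ((EtCoh.Rpush pY q).obj ((EtCoh.pull hb).obj K)) :=
    fun q hq hqi => by
      haveI := hbc K hT q (by omega)
      exact IsZero.of_iso ((EtCoh.pull h).map_isZero (hR q hq)) (asIso (EtBC.bcQ p h pY hb w q K)).symm
  rw [← subsingleton_H_push_iff pY _ i hRY]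
  haveI := isIso_baseChange0_of_bcQ h p hb pY w K (hbc K hT 0 (Nat.zero_le _))
  haveI : Subsingleton (EtCoh.H Y ((EtCoh.pull h).obj ((EtCoh.push p).obj K)) i) := by
    haveI : Subsingleton (EtCoh.H Xb K i) := by
      obtain ⟨k, rfl⟩ : ∃ k, i = k + 1 := ⟨i - 1, by omega⟩
      exact subsingleton_H_kernel L I k
    haveI : Subsingleton (EtCoh.H X ((EtCoh.push p).obj K) i) :=
      (subsingleton_H_push_iff p K i fun q hq _ => hR q hq).2 inferInstance
    exact ((hh _ (TorsionPush.isLTorsion_push L p hT)).1 i hin).2.subsingleton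
  exact subsingleton_H_of_iso (asIso (EtCoh.baseChange0 p h pY hb w K)) i

include hh hbc in
/-- **The base change of a comparison morphism is a comparison morphism.** -/
theorem compN [PreservesFiniteLimits (EtCoh.pull h)] : EtAcyc.CompN hb L n := by
  have main : ∀ i : ℕ, ∀ F : EtCoh.Ab Xb, EtAcyc.IsLTorsion L F →
      (i ≤ n → Function.Bijective (EtCore.Hpull hb F i)) ∧
        (i ≤ n + 1 → Function.Injective (EtCore.Hpull hb F i)) := by
    intro i
    induction i with
    | zero =>
      intro F hF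
      have := bijective_Hpull_zero h p hb pY w F
        (isIso_baseChange0_of_bcQ h p hb pY w F (hbc F hF 0 (Nat.zero_le _)))
        ((hh _ (TorsionPush.isLTorsion_push L p hF)).1 0 (Nat.zero_le _))
      exact ⟨fun _ => this, fun _ => this.1⟩
    | succ i ih =>
      intro F hF
      obtain ⟨S, rfl, hS, hQ, I, hI, hX₂⟩ := exists_embedding L hF
      haveI := hI
      have hK : EtAcyc.IsLTorsion L S.X₂ := hX₂ ▸ TorsionPush.isLTorsion_kernel L I
      haveI : Subsingleton (EtCoh.H Xb S.X₂ (i + 1)) := hX₂ ▸ subsingleton_H_kernel L I i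
      have hinj : i + 1 ≤ n + 1 → Function.Injective (EtCore.Hpull hb S.X₁ (i + 1)) := fun hin => by
        rw [injective_iff_map_eq_zero]
        intro e he
        obtain ⟨y, rfl⟩ := Abelian.Ext.covariant_sequence_exact₁ _ hS e
          (Subsingleton.elim (α := EtCoh.H Xb S.X₂ (i + 1)) _ _) (rfl : i + 1 = i + 1)
        obtain ⟨w', hw'⟩ := Abelian.Ext.covariant_sequence_exact₃ _
          (hS.map_of_exact (EtCoh.pull hb)) _ (rfl : i + 1 = i + 1)
          ((HpullSeq.Hpull_extClass hb hS i y).symm.trans he)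
        obtain ⟨w₀, rfl⟩ := ((ih S.X₂ hK).1 (by omega)).2 w'
        have hy : y = w₀.comp (Abelian.Ext.mk₀ S.g) (add_zero i) :=
          ((ih S.X₃ hQ).1 (by omega)).1 (hw'.symm.trans (HpullSeq.Hpull_postcomp hb S.g i w₀).symm)
        rw [hy, Abelian.Ext.comp_assoc_of_second_deg_zero, hS.comp_extClass, Abelian.Ext.comp_zero]
      refine ⟨fun hin => ⟨hinj (by omega), fun e' => ?_⟩, hinj⟩
      have := subsingleton_H_pull_kernel h p hb pY w L n hh hbc I (i + 1) (by omega) hin
      rw [← hX₂] at this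
      obtain ⟨y', hy'⟩ := Abelian.Ext.covariant_sequence_exact₁ _ (hS.map_of_exact (EtCoh.pull hb))
        e' (Subsingleton.elim (α := EtCoh.H Yb ((EtCoh.pull hb).obj S.X₂) (i + 1)) _ _)
        (rfl : i + 1 = i + 1)
      obtain ⟨y, rfl⟩ := ((ih S.X₃ hQ).1 (by omega)).2 y'
      exact ⟨y.comp hS.extClass rfl, (HpullSeq.Hpull_extClass hb hS i y).trans hy'⟩
  exact fun F hF _ => ⟨fun q hq => (main q F hF).1 hq, (main (n + 1) F hF).2 le_rfl⟩

end Groth.Agent.EtDescSS.CompBC
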