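import Groth.Agent.EtDescSS.CompBC
import Groth.Agent.EtaleSite.PullPentagon
import Groth.Agent.EtaleSite.HpullFunctor
import Groth.Agent.EtaleSite.Points
import Groth.Agent.S3513

/-!
# Descending classes along a surjective base change
-/

set_option autoImplicit false

universe u

open CategoryTheory CategoryTheory.Limits AlgebraicGeometry Opposite

namespace Groth.Agent.EtDescSS.CompBCDesc

open Groth.Agent.EtaleSite Groth.Agent.EtColim Groth.Agent.EtDescSS.CompBC

section Bounded

open Groth.Agent.EtaleSite.AdjExt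

universe w w' v v' a a'

variable {C : Type a} [Category.{v} C] [Abelian C] [EnoughInjectives C] [HasExt.{w} C]
  {D : Type a'} [Category.{v'} D] [Abelian D] [HasExt.{w'} D]
  {L : D ⥤ C} [L.Additive] [PreservesFiniteLimits L] [PreservesFiniteColimits L]
  {R : C ⥤ D} [R.Additive] [PreservesFiniteLimits R]
  (adj : L ⊣ R)

/-- `Ext^{m+1}(A, R F) → Ext^{m+1}(L A, F)` is injective when `R^q F = 0` for `1 ≤ q ≤ m`. -/
theorem toExt_injective_bounded (m : ℕ) : ∀ (A : D) (F : C),
    (∀ q : ℕ, 0 < q → q ≤ m → IsZero ((R.rightDerived q).obj F)) →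
    Function.Injective (toExt adj A F (m + 1)) := by
  induction m with
  | zero =>
    intro A F _
    let S : ShortComplex C := ShortComplex.mk (Injective.ι F) (cokernel.π _) (cokernel.condition _)
    have hS : S.ShortExact := { exact := ShortComplex.exact_cokernel _ }
    have hI : Injective S.X₂ := inferInstanceAs (Injective (Injective.under F))
    haveI := R.map_mono S.f
    let T : ShortComplex D :=
      ShortComplex.mk (R.map S.f) (cokernel.π (R.map S.f)) (cokernel.condition _)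
    have hT : T.ShortExact := { exact := ShortComplex.exact_cokernel _ }
    have hTI : Injective T.X₂ := Injective.injective_of_adjoint adj S.X₂
    have hR : (S.map R).Exact := hS.exact.map_of_mono_of_preservesKernel R hS.mono_f inferInstance
    let m₃ : T.X₃ ⟶ R.obj S.X₃ := cokernel.desc (R.map S.f) (R.map S.g) (S.map R).zero
    haveI : Mono m₃ := hR.mono_cokernelDesc
    let φ₃ : L.obj T.X₃ ⟶ S.X₃ := L.map m₃ ≫ adj.counit.app S.X₃
    let f : T.map L ⟶ S :=
      { τ₁ := adj.counit.app S.X₁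
        τ₂ := adj.counit.app S.X₂
        τ₃ := φ₃
        comm₁₂ := (adj.counit_naturality S.f).symm
        comm₂₃ := by
          show adj.counit.app S.X₂ ≫ S.g = L.map (cokernel.π (R.map S.f)) ≫ φ₃
          rw [← adj.counit_naturality S.g, ← Category.assoc, ← L.map_comp]
          simp [m₃] }
    rw [show toExt adj A F (0 + 1) = AddMonoidHom.mk' (toExt adj A F (0 + 1)) (fun a b => by
      simp [toExt, Abelian.Ext.mapExactFunctor_add, Abelian.Ext.add_comp]) from rfl,
      injective_iff_map_eq_zero]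
    intro e he
    obtain ⟨x₀, hx⟩ := Abelian.Ext.covariant_sequence_exact₁ A hT e
      (Abelian.Ext.eq_zero_of_injective _) (rfl : 0 + 1 = 1)
    obtain ⟨x, rfl⟩ := Abelian.Ext.homEquiv₀.symm.surjective x₀
    have hnat : (hT.map_of_exact L).extClass.comp (Abelian.Ext.mk₀ (adj.counit.app S.X₁)) (add_zero 1) =
        (Abelian.Ext.mk₀ φ₃).comp hS.extClass (zero_add 1) :=
      (hT.map_of_exact L).extClass_naturality hS f
    have h0 : (Abelian.Ext.mk₀ (L.map x ≫ φ₃)).comp hS.extClass (zero_add 1) = 0 := by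
      refine Eq.trans ?_ he
      change _ = (e.mapExactFunctor L).comp (Abelian.Ext.mk₀ (adj.counit.app F)) (add_zero _)
      rw [← hx, Abelian.Ext.mapExactFunctor_comp, Abelian.Ext.mapExactFunctor_extClass,
        Abelian.Ext.homEquiv₀_symm_apply, Abelian.Ext.mapExactFunctor_mk₀,
        ← Abelian.Ext.mk₀_comp_mk₀, Abelian.Ext.comp_assoc_of_second_deg_zero, ← hnat]
      exact (Abelian.Ext.comp_assoc _ _ _ (zero_add 1) (add_zero 1) (by omega)).symm
    obtain ⟨z₀, hz₀⟩ := Abelian.Ext.covariant_sequence_exact₃ (L.obj A) hS _ (zero_add 1) h0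
    obtain ⟨z, rfl⟩ := Abelian.Ext.homEquiv₀.symm.surjective z₀
    rw [Abelian.Ext.homEquiv₀_symm_apply, Abelian.Ext.mk₀_comp_mk₀] at hz₀
    have hz : z ≫ S.g = L.map x ≫ φ₃ := (Abelian.Ext.mk₀_bijective _ _).1 hz₀
    have hzx : adj.homEquiv _ _ z ≫ T.g = x := by
      rw [← cancel_mono m₃]
      apply (adj.homEquiv _ _).symm.injective
      rw [Category.assoc, show T.g ≫ m₃ = R.map S.g from cokernel.π_desc _ _ _,
        ← Adjunction.homEquiv_naturality_right, Equiv.symm_apply_apply, hz, adj.homEquiv_counit,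
        L.map_comp, Category.assoc]
    rw [← hx, ← hzx, Abelian.Ext.homEquiv₀_symm_apply, ← Abelian.Ext.mk₀_comp_mk₀,
      Abelian.Ext.comp_assoc_of_second_deg_zero, hT.comp_extClass, Abelian.Ext.comp_zero]
  | succ m ih =>
    intro A F hF
    let S : ShortComplex C := ShortComplex.mk (Injective.ι F) (cokernel.π _) (cokernel.condition _)
    have hS : S.ShortExact := { exact := ShortComplex.exact_cokernel _ }
    have hI : Injective S.X₂ := inferInstanceAs (Injective (Injective.under F))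
    let les := RDerLES.derivedLES R
    have zI : ∀ q : ℕ, 0 < q → IsZero ((R.rightDerived q).obj S.X₂) := fun q hq => by
      obtain ⟨k, rfl⟩ : ∃ k, q = k + 1 := ⟨q - 1, by omega⟩
      exact Functor.isZero_rightDerived_obj_injective_succ R k _
    have zQ : ∀ q : ℕ, 0 < q → q ≤ m → IsZero ((R.rightDerived q).obj S.X₃) := fun q hq hqm =>
      (les.exact₃ S hS q (q + 1) rfl).isZero_of_both_zeros
        ((zI q hq).eq_of_src _ _) ((hF (q + 1) (by omega) (by omega)).eq_of_tgt _ _)
    have hRS : (S.map R).ShortExact := by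
      have := hS.mono_f
      have hex : (S.map R).Exact := hS.exact.map_of_mono_of_preservesKernel R hS.mono_f inferInstance
      have hm : Mono (R.map S.f) := R.map_mono S.f
      have he : Epi ((R.rightDerived 0).map S.g) :=
        (les.exact₃ S hS 0 1 rfl).epi_f ((hF 1 (by omega) (by omega)).eq_of_tgt _ _)
      have he' : Epi (R.map S.g) := by
        have hnat := (R.rightDerivedZeroIsoSelf).hom.naturality S.g
        have : R.map S.g = (R.rightDerivedZeroIsoSelf).inv.app S.X₂ ≫ (R.rightDerived 0).map S.g ≫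
            (R.rightDerivedZeroIsoSelf).hom.app S.X₃ := by
          simp [hnat]
        rw [this]
        infer_instance
      exact { exact := hex, mono_f := hm, epi_g := he' }
    have hRI : Injective (S.map R).X₂ := Injective.injective_of_adjoint adj S.X₂
    rw [show toExt adj A F (m + 1 + 1) = AddMonoidHom.mk' (toExt adj A F (m + 1 + 1)) (fun a b => by
      simp [toExt, Abelian.Ext.mapExactFunctor_add, Abelian.Ext.add_comp]) from rfl,
      injective_iff_map_eq_zero]
    intro e he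
    obtain ⟨x, hx⟩ := Abelian.Ext.covariant_sequence_exact₁ A hRS e
      (Abelian.Ext.eq_zero_of_injective _) (rfl : m + 1 + 1 = m + 1 + 1)
    have h0 : (toExt adj A S.X₃ (m + 1) x).comp hS.extClass rfl = 0 := by
      refine (toExt_comp_extClass adj hS hRS x).symm.trans ?_
      exact (congrArg (toExt adj A S.X₁ (m + 1 + 1)) hx).trans he
    obtain ⟨z, hz⟩ := Abelian.Ext.covariant_sequence_exact₃ (L.obj A) hS _ rfl h0
    rw [Abelian.Ext.eq_zero_of_injective (I := S.X₂) z, Abelian.Ext.zero_comp] at hz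
    have hT0 : toExt adj A S.X₃ (m + 1) 0 = 0 :=
      (congrArg (fun k => Abelian.Ext.comp k (Abelian.Ext.mk₀ (adj.counit.app S.X₃))
        (add_zero (m + 1))) (Abelian.Ext.mapExactFunctor_zero L _ _ _)).trans (Abelian.Ext.zero_comp _ _ _ _ _)
    have hx0 : x = 0 := ih A S.X₃ zQ (hz.symm.trans hT0.symm)
    rw [← hx, hx0]
    exact Abelian.Ext.zero_comp _ _ _ _ _

end Bounded

/-- Transposes and equal morphisms. -/
theorem homEquiv_pullCongr {X Y : Scheme.{u}} {a b : X ⟶ Y} (h : a = b) {G : EtCoh.Ab Y}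
    {F : EtCoh.Ab X} (i : (EtCoh.pull a).obj G ⟶ F) :
    (EtCoh.pullPushAdj b).homEquiv _ _ ((EtCore.pullCongr h).inv.app G ≫ i) =
      (EtCoh.pullPushAdj a).homEquiv _ _ i ≫ (EtCoh.pushCongr h).hom.app F := by
  subst h
  have h1 : (EtCoh.pushCongr (rfl : a = a)).hom.app F = 𝟙 _ := by
    have hc : ∀ V : Y.Etale, (MorphismProperty.Over.pullbackCongr (P := EtCoh.etaleMP) (Q := ⊤)
        (rfl : a = a)).inv.app V = 𝟙 _ := fun V => by
      ext
      simp [MorphismProperty.Over.pullbackCongr]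
      first | exact pullback.congrHom_inv _ _ | (apply pullback.hom_ext <;> exact (Category.id_comp _).symm)
    apply Sheaf.hom_ext
    apply NatTrans.ext
    funext V
    change F.obj.map ((MorphismProperty.Over.pullbackCongr (P := EtCoh.etaleMP) (Q := ⊤)
        (rfl : a = a)).inv.app V.unop).op = 𝟙 _
    rw [hc]
    exact F.obj.map_id _
  rw [h1, Category.comp_id]
  simp [EtCore.pullCongr]

variable {X Y Xb Yb : Scheme.{u}} (h : Y ⟶ X) (p : Xb ⟶ X) (hb : Yb ⟶ Xb) (pY : Yb ⟶ Y)
  (w : hb ≫ p = pY ≫ h)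

/-- Pulling back along a composite in two steps. -/
theorem HpullVia_Hpull {A B D : Scheme.{u}} (a : A ⟶ B) (b : B ⟶ D) (t : A ⟶ D) (hw : a ≫ b = t)
    (G : EtCoh.Ab D) (q : ℕ) (e : EtCoh.H D G q) :
    EtCore.HpullVia a b t hw G q (EtCore.Hpull b G q e) = EtCore.Hpull t G q e := by
  subst hw
  rw [HpullFunctor.HpullVia_apply, ← HpullComp.Hpull_comp, Abelian.Ext.comp_assoc_of_second_deg_zero,
    Abelian.Ext.mk₀_comp_mk₀]
  simp [EtCore.pullCongr]

/-- The two ways of mapping to the base change of a direct image agree. -/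
theorem coef_eq {F : EtCoh.Ab X} {M : EtCoh.Ab Xb} (emb : (EtCoh.pull p).obj F ⟶ M) :
    (EtCore.pullComp pY h).hom.app F ≫ (EtCoh.pull pY).map
        ((EtCoh.pull h).map ((EtCoh.pullPushAdj p).homEquiv _ _ emb) ≫
          EtCoh.baseChange0 p h pY hb w M) ≫
        (EtCoh.pullPushAdj pY).counit.app ((EtCoh.pull hb).obj M) =
      (EtCore.pullCongr w).inv.app F ≫ (EtCore.pullComp hb p).hom.app F ≫ (EtCoh.pull hb).map emb := by
  apply ((EtCoh.pullPushAdj (pY ≫ h)).homEquiv _ _).injective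
  refine Eq.trans ?_ (homEquiv_pullCongr w _).symm
  rw [HpullFunctor.pullComp_homEquiv, HpullFunctor.pullComp_homEquiv]
  have h2 : (EtCoh.pullPushAdj pY).homEquiv _ _ ((EtCoh.pull pY).map
      ((EtCoh.pull h).map ((EtCoh.pullPushAdj p).homEquiv _ _ emb) ≫
        EtCoh.baseChange0 p h pY hb w M) ≫
        (EtCoh.pullPushAdj pY).counit.app ((EtCoh.pull hb).obj M)) =
      (EtCoh.pull h).map ((EtCoh.pullPushAdj p).homEquiv _ _ emb) ≫
        EtCoh.baseChange0 p h pY hb w M :=
    (congrArg _ ((EtCoh.pullPushAdj pY).homEquiv_counit _ _ _).symm).trans (Equiv.apply_symm_apply _ _)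
  have h3 : (EtCoh.pullPushAdj hb).homEquiv _ _ ((EtCoh.pull hb).map emb) =
      emb ≫ (EtCoh.pullPushAdj hb).unit.app M := by
    rw [Adjunction.homEquiv_unit]
    exact ((EtCoh.pullPushAdj hb).unit.naturality emb).symm
  have h4 : (EtCoh.pullPushAdj h).homEquiv _ _ (EtCoh.baseChange0 p h pY hb w M) =
      (EtCoh.push p).map ((EtCoh.pullPushAdj hb).unit.app M) ≫ (EtCoh.pushComp p hb).hom.app _ ≫
        (EtCoh.pushCongr w).hom.app _ ≫ (EtCoh.pushComp h pY).inv.app _ :=
    Equiv.apply_symm_apply _ _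
  erw [h2, h3, (EtCoh.pullPushAdj h).homEquiv_naturality_left,
    (EtCoh.pullPushAdj p).homEquiv_naturality_right, h4]
  simp

variable [CompactSpace Xb] [QuasiSeparatedSpace Xb] [QuasiSeparatedSpace X] (L : Set ℕ) (n : ℕ)
  (hh : EtAcyc.CompN h L n) [PreservesFiniteLimits (EtCoh.pull h)]
  [PreservesFiniteLimits (EtCoh.pull hb)] [PreservesFiniteLimits (EtCoh.pull pY)] [Surjective p]
  (hbc : ∀ Fb : EtCoh.Ab Xb, EtAcyc.IsLTorsion L Fb →
    (∀ i : ℕ, i ≤ n → IsIso (EtBC.bcQ p h pY hb w i Fb)))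

include hh hbc in
/-- **A class descends if it does after the base change.** -/
theorem mem_range_iff (F : EtCoh.Ab X) (hF : EtAcyc.IsLTorsion L F)
    (ξ : EtCoh.H Y ((EtCoh.pull h).obj F) (n + 1)) :
    ξ ∈ Set.range (EtCore.Hpull h F (n + 1)) ↔
      EtCore.HpullVia pY h (pY ≫ h) rfl F (n + 1) ξ ∈
        Set.range (EtCore.HpullVia hb p (pY ≫ h) w F (n + 1)) := by
  constructor
  · rintro ⟨e, rfl⟩
    exact ⟨EtCore.Hpull p F (n + 1) e,
      (HpullVia_Hpull hb p (pY ≫ h) w F _ e).trans (HpullVia_Hpull pY h _ rfl F _ e).symm⟩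
  rintro ⟨ζ, hζ⟩
  let pF := (EtCoh.pull p).obj F
  let I := Injective.under pF
  let M := kernel (TorsionPush.toLoc L I)
  let emb : pF ⟶ M := kernel.lift _ (Injective.ι pF)
    (TorsionPush.toLoc_eq_zero L I (Groth.Agent.S3513.isLTorsion_pull p L F hF) _)
  haveI : Mono emb := mono_of_mono_fac (kernel.lift_ι _ _ _)
  have hM : EtAcyc.IsLTorsion L M := TorsionPush.isLTorsion_kernel L I
  let ι : F ⟶ (EtCoh.push p).obj M := (EtCoh.pullPushAdj p).homEquiv _ _ emb
  haveI : Mono ι := by
    show Mono ((EtCoh.pullPushAdj p).homEquiv _ _ emb)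
    rw [Adjunction.homEquiv_unit]
    infer_instance
  let S : ShortComplex (EtCoh.Ab X) := ShortComplex.mk ι (cokernel.π ι) (cokernel.condition _)
  have hS : S.ShortExact := { exact := ShortComplex.exact_cokernel _ }
  have hQ : EtAcyc.IsLTorsion L S.X₃ :=
    TorsionPush.isLTorsion_of_epi L (cokernel.π ι) (TorsionPush.isLTorsion_push L p hM)
  let ψ := (EtCoh.pull h).map ι ≫ EtCoh.baseChange0 p h pY hb w M
  have hR : ∀ q : ℕ, 0 < q → IsZero ((EtCoh.Rpush p q).obj M) := fun q hq => by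
    obtain ⟨k, rfl⟩ : ∃ k, q = k + 1 := ⟨q - 1, by omega⟩
    exact TorsionPush.isZero_Rpush_kernel L I p k
  have hRY : ∀ q : ℕ, 0 < q → q ≤ n →
      IsZero ((EtCoh.Rpush pY q).obj ((EtCoh.pull hb).obj M)) := fun q hq hqn => by
    haveI := hbc M hM q hqn
    exact IsZero.of_iso ((EtCoh.pull h).map_isZero (hR q hq)) (asIso (EtBC.bcQ p h pY hb w q M)).symm
  haveI := isIso_baseChange0_of_bcQ h p hb pY w M (hbc M hM 0 (Nat.zero_le _))
  have hzero : (EtCore.Hpull pY _ (n + 1) (ξ.comp (Abelian.Ext.mk₀ ψ) (add_zero _))).comp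
      (Abelian.Ext.mk₀ ((EtCoh.pullPushAdj pY).counit.app ((EtCoh.pull hb).obj M))) (add_zero _) =
      0 := by
    let c := (EtCore.pullCongr w).inv.app F ≫ (EtCore.pullComp hb p).hom.app F ≫
      (EtCoh.pull hb).map emb
    have hc : ((EtCore.pullComp pY h).symm.app F).hom ≫ c = (EtCoh.pull pY).map ψ ≫
        (EtCoh.pullPushAdj pY).counit.app ((EtCoh.pull hb).obj M) := by
      show (EtCore.pullComp pY h).inv.app F ≫ c = _
      rw [show c = _ from (coef_eq h p hb pY w emb).symm, Iso.inv_hom_id_app_assoc]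
    have hd : (((EtCore.pullComp hb p).symm ≪≫ EtCore.pullCongr w).app F).hom ≫ c =
        (EtCoh.pull hb).map emb := by
      simp [c]
    have hzM : ζ.comp (Abelian.Ext.mk₀ emb) (add_zero (n + 1)) = 0 := by
      haveI := subsingleton_H_kernel L I n
      exact Subsingleton.elim (α := EtCoh.H Xb M (n + 1)) _ _
    have e1 : (EtCore.Hpull pY _ (n + 1) (ξ.comp (Abelian.Ext.mk₀ ψ) (add_zero _))).comp
        (Abelian.Ext.mk₀ ((EtCoh.pullPushAdj pY).counit.app ((EtCoh.pull hb).obj M))) (add_zero _) =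
        (EtCore.HpullVia pY h (pY ≫ h) rfl F (n + 1) ξ).comp (Abelian.Ext.mk₀ c) (add_zero _) := by
      rw [HpullSeq.Hpull_postcomp, HpullFunctor.HpullVia_apply,
        Abelian.Ext.comp_assoc_of_third_deg_zero, Abelian.Ext.mk₀_comp_mk₀,
        Abelian.Ext.comp_assoc_of_third_deg_zero, Abelian.Ext.mk₀_comp_mk₀, ← hc]
      simp [EtCore.pullCongr]
    rw [e1, ← hζ, HpullFunctor.HpullVia_apply, Abelian.Ext.comp_assoc_of_third_deg_zero,
      Abelian.Ext.mk₀_comp_mk₀, hd, ← HpullSeq.Hpull_postcomp, hzM, map_zero]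
  have hx : ξ.comp (Abelian.Ext.mk₀ ψ) (add_zero (n + 1)) = 0 := by
    apply toExt_injective_bounded (EtCoh.pullPushAdj pY) n (EtCoh.const Y ℤ) _ hRY
    have h0 : AdjExt.toExt (EtCoh.pullPushAdj pY) (EtCoh.const Y ℤ) ((EtCoh.pull hb).obj M) (n + 1) 0 =
        0 := by simp [AdjExt.toExt, Abelian.Ext.mapExactFunctor_zero]
    rw [h0]
    have hk := congrArg (fun k => (Abelian.Ext.mk₀ (EtCore.pullConst pY ℤ).hom).comp k
      (zero_add (n + 1))) hzero
    simpa [EtCore.Hpull, AdjExt.toExt, Abelian.Ext.comp_assoc_of_second_deg_zero,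
      Abelian.Ext.comp_assoc_of_third_deg_zero] using hk
  have hK : ξ.comp (Abelian.Ext.mk₀ ((EtCoh.pull h).map ι)) (add_zero (n + 1)) = 0 := by
    have := congrArg (fun k => Abelian.Ext.comp k
      (Abelian.Ext.mk₀ (inv (EtCoh.baseChange0 p h pY hb w M))) (add_zero (n + 1))) hx
    simpa [ψ] using this
  obtain ⟨y', hy'⟩ := Abelian.Ext.covariant_sequence_exact₁ _ (hS.map_of_exact (EtCoh.pull h)) ξ hK
    (rfl : n + 1 = n + 1)
  obtain ⟨y, rfl⟩ := ((hh _ hQ).1 n le_rfl).2 y'
  exact ⟨y.comp hS.extClass rfl, (HpullSeq.Hpull_extClass h hS n y).trans hy'⟩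

end Groth.Agent.EtDescSS.CompBCDesc
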