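import Groth.Agent.EtDescSS.HenselSect
import Groth.Agent.EtDescSS.Etale

/-!
# Étale cohomology of henselian local schemes

For a closed immersion `i` onto the closed point of a henselian local scheme `(Spec (CommRingCat.of A))` and any abelian
sheaf `F`, `H^n((Spec (CommRingCat.of A)), F) → H^n((Spec (CommRingCat.of A)), i_* i⁻¹ F)` is bijective.
-/

set_option autoImplicit false

universe u

open CategoryTheory CategoryTheory.Limits AlgebraicGeometry Opposite

namespace Groth.Agent.EtDescSS.Hensel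

open Groth.Agent.EtaleSite

variable {A : Type u} [CommRing A] [HenselianLocalRing A]

/-- A local section over `W` of an epimorphism lifts the pulled back global section. -/
theorem exists_lift_pull {X : Scheme.{u}} {J Q : EtCoh.Ab X} (a : J ⟶ Q) (W : X.Etale)
    (y : EtCoh.const X ℤ ⟶ Q) (s : J.obj.obj (op W))
    (hs : a.hom.app (op W) s = Q.obj.map ((EtCore.topIsTerminal X).from W).op
      ((EtCore.constAdj X).homEquiv (AddCommGrpCat.of (ULift.{u + 1} ℤ)) Q y ⟨1⟩)) :
    ∃ z : (EtCoh.pull W.hom).obj (EtCoh.const X ℤ) ⟶ (EtCoh.pull W.hom).obj J,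
      z ≫ (EtCoh.pull W.hom).map a = (EtCoh.pull W.hom).map y := by
  let π := W.hom
  let δ : EtCoh.top W.left ⟶ (EtCoh.bc π).obj W :=
    MorphismProperty.Over.homMk (pullback.lift (𝟙 _) (𝟙 _) rfl) (pullback.lift_snd _ _ _)
  let e₀ := (EtCoh.bc π).map ((EtCore.topIsTerminal X).from W)
  have hiso : IsIso (δ ≫ e₀) := ⟨(EtCore.topIsTerminal W.left).from _,
    (EtCore.topIsTerminal W.left).hom_ext _ _, (EtCore.bcTopIsTerminal π).hom_ext _ _⟩
  let T := fun G : EtCoh.Ab X => (EtCoh.push π).obj ((EtCoh.pull π).obj G)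
  let η := (EtCoh.pullPushAdj π).unit
  -- the lifted section
  let t : (T J).obj.obj (op (EtCoh.top X)) :=
    ((EtCoh.pull π).obj J).obj.map (inv (δ ≫ e₀)).op
      (((EtCoh.pull π).obj J).obj.map δ.op ((η.app J).hom.app (op W) s))
  let gt : AddCommGrpCat.of (ULift.{u + 1} ℤ) ⟶ (EtCore.gsec X).obj (T J) :=
    AddCommGrpCat.ofHom ((zmultiplesHom _ t).comp AddEquiv.ulift.toAddMonoidHom)
  let z' : EtCoh.const X ℤ ⟶ T J := ((EtCore.constAdj X).homEquiv _ _).symm gt
  have key : (T Q).obj.map (𝟙 (op (EtCoh.top X)))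
      (((EtCoh.push π).map ((EtCoh.pull π).map a)).hom.app (op (EtCoh.top X)) t) =
      (η.app Q).hom.app (op (EtCoh.top X))
        ((EtCore.constAdj X).homEquiv (AddCommGrpCat.of (ULift.{u + 1} ℤ)) Q y ⟨1⟩) := by
    rw [CategoryTheory.Functor.map_id, ConcreteCategory.id_apply]
    have h1 := NatTrans.naturality_apply ((EtCoh.pull π).map a).hom (inv (δ ≫ e₀)).op
      (((EtCoh.pull π).obj J).obj.map δ.op ((η.app J).hom.app (op W) s))
    have h2 := NatTrans.naturality_apply ((EtCoh.pull π).map a).hom δ.op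
      ((η.app J).hom.app (op W) s)
    have h3 : ((EtCoh.pull π).map a).hom.app (op ((EtCoh.bc π).obj W)) ((η.app J).hom.app (op W) s) =
        ((EtCoh.pull π).obj Q).obj.map e₀.op ((η.app Q).hom.app (op (EtCoh.top X))
          ((EtCore.constAdj X).homEquiv (AddCommGrpCat.of (ULift.{u + 1} ℤ)) Q y ⟨1⟩)) := by
      have h := congrArg (fun k => k.hom.app (op W) s) (η.naturality a)
      refine h.symm.trans ?_
      show (η.app Q).hom.app (op W) (a.hom.app (op W) s) = _
      rw [hs]
      exact NatTrans.naturality_apply (η.app Q).hom _ _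
    refine h1.trans ((congrArg _ (h2.trans (congrArg _ h3))).trans ?_)
    rw [← ConcreteCategory.comp_apply, ← ConcreteCategory.comp_apply, ← Functor.map_comp,
      ← Functor.map_comp, ← op_comp, ← op_comp, Category.assoc, IsIso.inv_hom_id, op_id,
      CategoryTheory.Functor.map_id, ConcreteCategory.id_apply]
  have hz : z' ≫ (EtCoh.push π).map ((EtCoh.pull π).map a) = y ≫ η.app Q := by
    apply ((EtCore.constAdj X).homEquiv _ _).injective
    rw [Adjunction.homEquiv_naturality_right, Adjunction.homEquiv_naturality_right,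
      Equiv.apply_symm_apply]
    refine AddCommGrpCat.hom_ext (AddMonoidHom.ext fun n => ?_)
    obtain ⟨n⟩ := n
    have hn : (⟨n⟩ : ULift.{u + 1} ℤ) = n • ⟨1⟩ := ULift.ext _ _ (by simp)
    rw [hn, map_zsmul, map_zsmul]
    refine congrArg (n • ·) ?_
    refine Eq.trans ?_ key
    rw [CategoryTheory.Functor.map_id, ConcreteCategory.id_apply]
    show _ = ((EtCore.gsec X).map ((EtCoh.push π).map ((EtCoh.pull π).map a))) t
    exact congrArg ((EtCore.gsec X).map ((EtCoh.push π).map ((EtCoh.pull π).map a)))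
      (one_zsmul t)
  refine ⟨((EtCoh.pullPushAdj π).homEquiv _ _).symm z', ?_⟩
  apply ((EtCoh.pullPushAdj π).homEquiv _ _).injective
  rw [Adjunction.homEquiv_naturality_right, Equiv.apply_symm_apply, hz]
  exact ((EtCoh.pullPushAdj π).homEquiv_unit _ _ _).trans
    ((EtCoh.pullPushAdj π).unit.naturality y).symm |>.symm

/-- A class of positive degree dies on a finite étale cover. -/
theorem exists_kill (n : ℕ) : ∀ (G : EtCoh.Ab (Spec (CommRingCat.of A))) (x : EtCoh.H (Spec (CommRingCat.of A)) G (n + 1)),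
    ∃ (R' : Type u) (_ : CommRing R') (π : Spec (CommRingCat.of R') ⟶ (Spec (CommRingCat.of A))),
      IsFinite π ∧ Etale π ∧ Surjective π ∧ x.mapExactFunctor (EtCoh.pull π) = 0 := by
  induction n with
  | zero =>
    intro G x
    let SC : ShortComplex (EtCoh.Ab (Spec (CommRingCat.of A))) :=
      ShortComplex.mk (Injective.ι G) (cokernel.π _) (cokernel.condition _)
    have hS : SC.ShortExact := { exact := ShortComplex.exact_cokernel _ }
    haveI : Injective SC.X₂ := inferInstanceAs (Injective (Injective.under G))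
    obtain ⟨y₀, hy₀⟩ := Abelian.Ext.covariant_sequence_exact₁ _ hS x
      (Abelian.Ext.eq_zero_of_injective _) (rfl : 0 + 1 = 1)
    obtain ⟨y, rfl⟩ := Abelian.Ext.homEquiv₀.symm.surjective y₀
    let ξ := geomPointAt (Spec (CommRingCat.of A)) (IsLocalRing.closedPoint A)
    let x₀ : (Scheme.pointSmallEtale ξ).fiber.obj (EtCoh.top (Spec (CommRingCat.of A))) :=
      Over.homMk ξ (Category.comp_id _)
    have hξ : ξ default = IsLocalRing.closedPoint A := geomPointAt_apply _ _ _
    haveI := hS.epi_g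
    let sy := (EtCore.constAdj (Spec (CommRingCat.of A))).homEquiv (AddCommGrpCat.of (ULift.{u + 1} ℤ)) SC.X₃ y ⟨1⟩
    obtain ⟨p, hp⟩ := (epi_iff_stalk SC.g).1 inferInstance _ ξ (germ ξ SC.X₃ (EtCoh.top (Spec (CommRingCat.of A))) x₀ sy)
    obtain ⟨U, x', s, rfl⟩ := exists_germ_eq ξ SC.X₂ p
    let u : U ⟶ EtCoh.top (Spec (CommRingCat.of A)) := (EtCore.topIsTerminal (Spec (CommRingCat.of A))).from U
    have hx₀ : (Scheme.pointSmallEtale ξ).fiber.map u x' = x₀ :=
      Over.OverMorphism.ext ((congrArg (x'.left ≫ ·)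
        ((Category.comp_id _).symm.trans (MorphismProperty.Over.w u))).trans (Over.w x'))
    have hp' : germ ξ SC.X₃ U x' (SC.g.hom.app (op U) s) =
        germ ξ SC.X₃ U x' (SC.X₃.obj.map u.op sy) := by
      refine ((germ_naturality ξ SC.g U x' s).symm.trans hp).trans ?_
      rw [← hx₀]
      exact (germ_res ξ SC.X₃ u x' sy).symm
    obtain ⟨V, g, v, hv, e⟩ := (germ_eq_iff ξ SC.X₃ U x' _ _).1 hp'
    have hv' : V.hom (v.left (default : Spec (CommRingCat.of _))) = IsLocalRing.closedPoint A :=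
      (congrArg (fun k => k (default : Spec (CommRingCat.of _))) (Over.w v)).trans hξ
    haveI : Etale V.hom := V.prop
    obtain ⟨R', _, π, l, hπf, hπe, hπs, hl⟩ := HenselLift.exists_finite_etale V.hom _ hv'
    let W : ((Spec (CommRingCat.of A))).Etale := Scheme.Etale.mk π
    let lw : W ⟶ V := MorphismProperty.Over.homMk l hl
    obtain ⟨z, hz⟩ := exists_lift_pull SC.g W y (SC.X₂.obj.map (lw ≫ g).op s) (by
      refine (NatTrans.naturality_apply SC.g.hom (lw ≫ g).op s).trans ?_
      rw [(EtCore.topIsTerminal (Spec (CommRingCat.of A))).hom_ext ((EtCore.topIsTerminal (Spec (CommRingCat.of A))).from W) ((lw ≫ g) ≫ u)]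
      simp only [op_comp, Functor.map_comp, ConcreteCategory.comp_apply]
      exact congrArg (SC.X₃.obj.map lw.op) e)
    refine ⟨R', _, π, hπf, hπe, hπs, ?_⟩
    show x.mapExactFunctor (EtCoh.pull W.hom) = 0
    rw [← hy₀, Abelian.Ext.mapExactFunctor_comp, Abelian.Ext.mapExactFunctor_extClass,
      Abelian.Ext.homEquiv₀_symm_apply, Abelian.Ext.mapExactFunctor_mk₀, ← hz,
      ← Abelian.Ext.mk₀_comp_mk₀, Abelian.Ext.comp_assoc_of_second_deg_zero]
    exact (congrArg (fun k => (Abelian.Ext.mk₀ z).comp k (zero_add 1))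
      (hS.map_of_exact (EtCoh.pull W.hom)).comp_extClass).trans (Abelian.Ext.comp_zero _ _ _ _ _)
  | succ n ih =>
    intro G x
    let SC : ShortComplex (EtCoh.Ab (Spec (CommRingCat.of A))) :=
      ShortComplex.mk (Injective.ι G) (cokernel.π _) (cokernel.condition _)
    have hS : SC.ShortExact := { exact := ShortComplex.exact_cokernel _ }
    haveI : Injective SC.X₂ := inferInstanceAs (Injective (Injective.under G))
    obtain ⟨y, rfl⟩ := Abelian.Ext.covariant_sequence_exact₁ _ hS x
      (Abelian.Ext.eq_zero_of_injective _) (rfl : n + 1 + 1 = n + 1 + 1)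
    obtain ⟨R', _, π, hπf, hπe, hπs, h⟩ := ih SC.X₃ y
    refine ⟨R', _, π, hπf, hπe, hπs, ?_⟩
    rw [Abelian.Ext.mapExactFunctor_comp, h, Abelian.Ext.zero_comp]

variable {Z : Scheme.{u}} (i : Z ⟶ (Spec (CommRingCat.of A))) [IsClosedImmersion i]

/-- `i_* i⁻¹`. -/
noncomputable abbrev R : EtCoh.Ab (Spec (CommRingCat.of A)) ⥤ EtCoh.Ab (Spec (CommRingCat.of A)) := EtCoh.pull i ⋙ EtCoh.push i

/-- `i_* i⁻¹` of an injective sheaf has no higher cohomology. -/
theorem subsingleton_H_R (I : EtCoh.Ab (Spec (CommRingCat.of A))) [Injective I] (n : ℕ) :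
    Subsingleton (EtCoh.H (Spec (CommRingCat.of A)) ((R i).obj I) (n + 1)) := by
  refine subsingleton_of_forall_eq 0 fun x => ?_
  obtain ⟨R', _, π, hπf, hπe, hπs, hx⟩ := exists_kill n _ x
  haveI := hπf; haveI := hπe; haveI := hπs
  let η := (EtCoh.pullPushAdj π).unit.app I
  let r := Injective.factorThru (𝟙 I) η
  have hr : η ≫ r = 𝟙 I := Injective.comp_factorThru _ _
  let f := pullback.fst π i
  let g := pullback.snd π i
  let X' : EtCoh.Ab (Spec (CommRingCat.of R')) :=
    (EtCoh.push f).obj ((EtCoh.pull f).obj ((EtCoh.pull π).obj I))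
  have hbc := isIso_baseChange0_integral π i g f (IsPullback.of_hasPullback π i)
    ((EtCoh.pull π).obj I)
  let φ : (R i).obj ((EtCoh.push π).obj ((EtCoh.pull π).obj I)) ≅ (EtCoh.push π).obj X' :=
    (EtCoh.push i).mapIso (@asIso _ _ _ _ _ hbc) ≪≫ (EtCoh.pushComp i g).app _ ≪≫
      (EtCoh.pushCongr pullback.condition.symm).app _ ≪≫ ((EtCoh.pushComp π f).app _).symm
  have hb := AdjExt.toExt_bijective (EtCoh.pullPushAdj π) (n + 1) (EtCoh.const (Spec (CommRingCat.of A)) ℤ) X' fun m hm => by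
    obtain ⟨k, rfl⟩ : ∃ k, m = k + 1 := ⟨m - 1, by omega⟩
    exact Flasque.isZero_rightDerived_of_exact _ k X'
  let ψ := (R i).map η ≫ φ.hom
  let θ := φ.inv ≫ (R i).map r
  have hψθ : ψ ≫ θ = 𝟙 _ := by
    simp only [ψ, θ, Category.assoc, Iso.hom_inv_id_assoc]
    exact ((R i).map_comp η r).symm.trans ((congrArg (R i).map hr).trans ((R i).map_id I))
  have h0 : x.comp (Abelian.Ext.mk₀ ψ) (add_zero (n + 1)) = 0 := by
    apply hb.1
    show ((x.comp (Abelian.Ext.mk₀ ψ) (add_zero (n + 1))).mapExactFunctor (EtCoh.pull π)).comp _ _ =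
      ((0 : Abelian.Ext _ _ (n + 1)).mapExactFunctor (EtCoh.pull π)).comp _ _
    rw [Abelian.Ext.mapExactFunctor_comp, hx, Abelian.Ext.zero_comp,
      Abelian.Ext.mapExactFunctor_zero]
  have := congrArg (fun e => Abelian.Ext.comp e (Abelian.Ext.mk₀ θ) (add_zero (n + 1))) h0
  simpa [hψθ] using this

variable (hi : Set.range i = {IsLocalRing.closedPoint A})

include hi in
/-- **`H^n((Spec (CommRingCat.of A)), F) → H^n((Spec (CommRingCat.of A)), i_* i⁻¹ F)` is bijective.** -/
theorem bijective_comp (n : ℕ) : ∀ F : EtCoh.Ab (Spec (CommRingCat.of A)),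
    Function.Bijective (fun e : EtCoh.H (Spec (CommRingCat.of A)) F n =>
      e.comp (Abelian.Ext.mk₀ ((EtCoh.pullPushAdj i).unit.app F)) (add_zero n)) := by
  induction n with
  | zero => exact HenselSect.bijective_comp_zero i hi
  | succ n ih =>
    intro F
    let SC : ShortComplex (EtCoh.Ab (Spec (CommRingCat.of A))) :=
      ShortComplex.mk (Injective.ι F) (cokernel.π _) (cokernel.condition _)
    have hS : SC.ShortExact := { exact := ShortComplex.exact_cokernel _ }
    haveI : Injective SC.X₂ := inferInstanceAs (Injective (Injective.under F))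
    have hRS := hS.map_of_exact (R i)
    let η := (EtCoh.pullPushAdj i).unit
    let Φ : SC ⟶ SC.map (R i) :=
      { τ₁ := η.app SC.X₁
        τ₂ := η.app SC.X₂
        τ₃ := η.app SC.X₃
        comm₁₂ := (η.naturality SC.f).symm
        comm₂₃ := (η.naturality SC.g).symm }
    have hnat : hS.extClass.comp (Abelian.Ext.mk₀ (η.app SC.X₁)) (add_zero 1) =
        (Abelian.Ext.mk₀ (η.app SC.X₃)).comp hRS.extClass (zero_add 1) :=
      hS.extClass_naturality hRS Φ
    have hδ : ∀ y : EtCoh.H (Spec (CommRingCat.of A)) SC.X₃ n,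
        (y.comp hS.extClass rfl).comp (Abelian.Ext.mk₀ (η.app SC.X₁)) (add_zero (n + 1)) =
          (y.comp (Abelian.Ext.mk₀ (η.app SC.X₃)) (add_zero n)).comp hRS.extClass rfl := fun y => by
      rw [Abelian.Ext.comp_assoc_of_third_deg_zero, hnat, Abelian.Ext.comp_assoc_of_second_deg_zero]
      rfl
    have hg : ∀ w : EtCoh.H (Spec (CommRingCat.of A)) SC.X₂ n,
        (w.comp (Abelian.Ext.mk₀ SC.g) (add_zero n)).comp (Abelian.Ext.mk₀ (η.app SC.X₃))
            (add_zero n) =
          (w.comp (Abelian.Ext.mk₀ (η.app SC.X₂)) (add_zero n)).comp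
            (Abelian.Ext.mk₀ ((R i).map SC.g)) (add_zero n) := fun w => by
      rw [Abelian.Ext.comp_assoc_of_third_deg_zero, Abelian.Ext.comp_assoc_of_third_deg_zero,
        Abelian.Ext.mk₀_comp_mk₀, Abelian.Ext.mk₀_comp_mk₀]
      exact congrArg (fun k => Abelian.Ext.comp w (Abelian.Ext.mk₀ k) (add_zero n))
        (η.naturality SC.g)
    show Function.Bijective (fun e : EtCoh.H (Spec (CommRingCat.of A)) SC.X₁ (n + 1) =>
      e.comp (Abelian.Ext.mk₀ (η.app SC.X₁)) (add_zero (n + 1)))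
    haveI := subsingleton_H_R i SC.X₂ n
    constructor
    · rw [show (fun e : EtCoh.H (Spec (CommRingCat.of A)) SC.X₁ (n + 1) =>
          e.comp (Abelian.Ext.mk₀ (η.app SC.X₁)) (add_zero (n + 1))) =
        AddMonoidHom.mk' (fun e : EtCoh.H (Spec (CommRingCat.of A)) SC.X₁ (n + 1) =>
          e.comp (Abelian.Ext.mk₀ (η.app SC.X₁)) (add_zero (n + 1)))
          (fun a b => Abelian.Ext.add_comp _ _ _ _) from rfl, injective_iff_map_eq_zero]
      intro e he
      obtain ⟨y, rfl⟩ := Abelian.Ext.covariant_sequence_exact₁ _ hS e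
        (Abelian.Ext.eq_zero_of_injective _) (rfl : n + 1 = n + 1)
      obtain ⟨w', hw'⟩ := Abelian.Ext.covariant_sequence_exact₃ _ hRS _ (rfl : n + 1 = n + 1)
        ((hδ y).symm.trans he)
      obtain ⟨w, rfl⟩ := (ih SC.X₂).2 w'
      have hyw : y = w.comp (Abelian.Ext.mk₀ SC.g) (add_zero n) :=
        (ih SC.X₃).1 (hw'.symm.trans (hg w).symm)
      rw [hyw, Abelian.Ext.comp_assoc_of_second_deg_zero, hS.comp_extClass, Abelian.Ext.comp_zero]
    · intro e'
      obtain ⟨y', hy'⟩ := Abelian.Ext.covariant_sequence_exact₁ _ hRS e'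
        (Subsingleton.elim (α := EtCoh.H (Spec (CommRingCat.of A)) ((R i).obj SC.X₂) (n + 1)) _ _) (rfl : n + 1 = n + 1)
      obtain ⟨y, rfl⟩ := (ih SC.X₃).2 y'
      exact ⟨y.comp hS.extClass rfl, (hδ y).trans hy'⟩

include hi in
/-- The inverse image to the closed point is bijective on cohomology. -/
theorem bijective_Hpull [PreservesFiniteLimits (EtCoh.pull i)] (F : EtCoh.Ab (Spec (CommRingCat.of A))) (n : ℕ) :
    Function.Bijective (EtCore.Hpull i F n) := by
  have hb := AdjExt.toExt_bijective (EtCoh.pullPushAdj i) n (EtCoh.const (Spec (CommRingCat.of A)) ℤ)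
    ((EtCoh.pull i).obj F) fun m hm => by
    obtain ⟨k, rfl⟩ : ∃ k, m = k + 1 := ⟨m - 1, by omega⟩
    exact Flasque.isZero_rightDerived_of_exact _ k _
  have he : ∀ e : EtCoh.H (Spec (CommRingCat.of A)) F n, e.mapExactFunctor (EtCoh.pull i) =
      AdjExt.toExt (EtCoh.pullPushAdj i) _ _ n
        (e.comp (Abelian.Ext.mk₀ ((EtCoh.pullPushAdj i).unit.app F)) (add_zero n)) := fun e => by
    rw [AdjExt.toExt, Abelian.Ext.mapExactFunctor_comp, Abelian.Ext.mapExactFunctor_mk₀,
      Abelian.Ext.comp_assoc_of_third_deg_zero, Abelian.Ext.mk₀_comp_mk₀,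
      Adjunction.left_triangle_components]
    exact (Abelian.Ext.comp_mk₀_id _).symm
  have hc : Function.Bijective (fun x : Abelian.Ext ((EtCoh.pull i).obj (EtCoh.const (Spec (CommRingCat.of A)) ℤ))
      ((EtCoh.pull i).obj F) n =>
      (Abelian.Ext.mk₀ (EtCore.pullConst i ℤ).inv).comp x (zero_add n)) := by
    refine Function.bijective_iff_has_inverse.2
      ⟨fun x => (Abelian.Ext.mk₀ (EtCore.pullConst i ℤ).hom).comp x (zero_add n), ?_, ?_⟩ <;>
    · intro x
      simp
  have : ⇑(EtCore.Hpull i F n) = (fun x => (Abelian.Ext.mk₀ (EtCore.pullConst i ℤ).inv).comp x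
      (zero_add n)) ∘ AdjExt.toExt (EtCoh.pullPushAdj i) _ _ n ∘ (fun e : EtCoh.H (Spec (CommRingCat.of A)) F n =>
      e.comp (Abelian.Ext.mk₀ ((EtCoh.pullPushAdj i).unit.app F)) (add_zero n)) :=
    funext fun e => congrArg (fun k => (Abelian.Ext.mk₀ (EtCore.pullConst i ℤ).inv).comp k
      (zero_add n)) (he e)
  rw [this]
  exact hc.comp (hb.comp (bijective_comp i hi n F))

end Groth.Agent.EtDescSS.Hensel
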