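import Groth.Agent.MultType.HenselSep
import Groth.Agent.Hensel.Local
import Groth.Agent.EtaleSite.Points
import Mathlib.RingTheory.Unramified.Field
import Mathlib.RingTheory.Jacobson.Ring
import Mathlib.RingTheory.RingHom.Etale
import Mathlib.AlgebraicGeometry.Morphisms.Finite
import Mathlib.AlgebraicGeometry.Morphisms.Etale

/-!
# Étale neighbourhoods of the closed point of a henselian local scheme contain finite étale covers
-/

set_option autoImplicit false

universe u

open CategoryTheory CategoryTheory.Limits AlgebraicGeometry TensorProduct IsLocalRing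

namespace Groth.Agent.EtDescSS.HenselLift

variable {A : Type u} [CommRing A] [HenselianLocalRing A]

/-- An étale algebra with a point over the closed point maps to a finite étale local algebra. -/
theorem exists_algHom (B : Type u) [CommRing B] [Algebra A B] [Algebra.Etale A B] (q : Ideal B)
    [q.IsPrime] (hq : q.comap (algebraMap A B) = maximalIdeal A) :
    ∃ (R' : Type u) (_ : CommRing R') (_ : Algebra A R'),
      HenselianLocalRing R' ∧ Algebra.Etale A R' ∧ Module.Finite A R' ∧ Module.FaithfullyFlat A R' ∧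
        Nonempty (B →ₐ[A] R') := by
  let k := ResidueField A
  let C := k ⊗[A] B
  have hle : ∀ a ∈ maximalIdeal A, (Ideal.Quotient.mk q).comp (algebraMap A B) a = 0 := fun a ha =>
    Ideal.Quotient.eq_zero_iff_mem.2 (by rw [← hq] at ha; exact ha)
  haveI : Nontrivial C := by
    let φ : k →+* B ⧸ q := Ideal.Quotient.lift _ _ hle
    letI : Algebra k (B ⧸ q) := φ.toAlgebra
    haveI : IsScalarTower A k (B ⧸ q) := IsScalarTower.of_algebraMap_eq' rfl
    exact (Algebra.TensorProduct.lift (Algebra.ofId k (B ⧸ q))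
      ((Ideal.Quotient.mkₐ A q)) fun _ _ => .all _ _).toRingHom.domain_nontrivial
  obtain ⟨M, hM⟩ := Ideal.exists_maximal C
  haveI := hM
  letI : Field (C ⧸ M) := Ideal.Quotient.field M
  letI k' := C ⧸ M
  haveI : Algebra.FiniteType k (C ⧸ M) :=
    Algebra.FiniteType.of_surjective (Ideal.Quotient.mkₐ k M) (Ideal.Quotient.mkₐ_surjective k M)
  haveI : Module.Finite k (C ⧸ M) := finite_of_finite_type_of_isJacobsonRing _ _
  haveI : Algebra.FormallyUnramified k (C ⧸ M) :=
    Algebra.FormallyUnramified.of_surjective (Ideal.Quotient.mkₐ k M)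
      (Ideal.Quotient.mkₐ_surjective k M)
  haveI : Algebra.IsSeparable k (C ⧸ M) := Algebra.FormallyUnramified.isSeparable k (C ⧸ M)
  obtain ⟨R', _, _, _, σ, h1, h2, h3, hσ, hker, hmax⟩ := MultType.HenselSep.exists_lift A (C ⧸ M)
  haveI := MultType.HenselSep.henselianLocalRing hmax
  haveI := h1
  let e : (R' ⧸ maximalIdeal R') ≃ₐ[A] C ⧸ M :=
    (Ideal.quotientEquivAlgOfEq A hker.symm).trans
      (Ideal.quotientKerAlgEquivOfSurjective hσ)
  let τ : B →ₐ[A] R' ⧸ maximalIdeal R' :=
    e.symm.toAlgHom.comp (((Ideal.Quotient.mkₐ k M).restrictScalars A).comp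
      Algebra.TensorProduct.includeRight)
  obtain ⟨f, -, -⟩ := Hensel.existsUnique_algHom_residue (R := A) (T := R') B
    (τ : B →ₐ[A] ResidueField R')
  exact ⟨R', _, _, inferInstance, h1, h2, h3, ⟨f⟩⟩

/-- An étale scheme over a henselian local scheme with a point over the closed point receives a
finite étale cover of the base. -/
theorem exists_finite_etale {V : Scheme.{u}} (g : V ⟶ Spec (CommRingCat.of A)) [Etale g] (v : V)
    (hv : g v = closedPoint A) :
    ∃ (R' : Type u) (_ : CommRing R') (π : Spec (CommRingCat.of R') ⟶ Spec (CommRingCat.of A))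
      (l : Spec (CommRingCat.of R') ⟶ V),
      IsFinite π ∧ Etale π ∧ Surjective π ∧ l ≫ g = π := by
  obtain ⟨B, j, hj, hmem, -⟩ :=
    Scheme.exists_affine_mem_range_and_range_subset (x := v) (U := ⊤) (by trivial)
  obtain ⟨ψ, hψ⟩ := Spec.map_surjective (j ≫ g)
  algebraize [ψ.hom]
  have : Algebra.Etale A B := by
    have : Etale (Spec.map ψ) := by rw [hψ]; infer_instance
    exact RingHom.etale_algebraMap.1 ((HasRingHomProperty.Spec_iff (P := @Etale)).1 this)
  obtain ⟨w, hw⟩ := hmem
  have hw' : Spec.map ψ w = closedPoint A := by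
    rw [hψ, Scheme.Hom.comp_apply, hw, hv]
  obtain ⟨R', _, _, -, h1, h2, h3, ⟨f⟩⟩ := exists_algHom B w.asIdeal
    (congrArg PrimeSpectrum.asIdeal hw')
  refine ⟨R', _, Spec.map (CommRingCat.ofHom (algebraMap A R')),
    Spec.map (CommRingCat.ofHom f.toRingHom) ≫ j, ?_, ?_, ?_, ?_⟩
  · rw [IsFinite.SpecMap_iff]
    exact RingHom.finite_algebraMap.2 h2
  · rw [HasRingHomProperty.Spec_iff (P := @Etale)]
    exact RingHom.etale_algebraMap.2 h1
  · exact ⟨PrimeSpectrum.comap_surjective_of_faithfullyFlat⟩
  · rw [Category.assoc, ← hψ, ← Spec.map_comp]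
    congr 1
    ext a
    exact f.commutes a

end Groth.Agent.EtDescSS.HenselLift
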