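import Groth.Agent.EtDescSS.HenselLift
import Groth.Agent.EtaleSite.Recollement
import Groth.Agent.EtaleSite.Clopen
import Groth.Agent.EtaleSite.ZarAffine
import Groth.Prelude.Def_EtCore
import Mathlib.Algebra.Homology.DerivedCategory.Ext.EnoughInjectives

/-!
# Global sections of sheaves on henselian local schemes

For a closed immersion `i` onto the closed point of a henselian local scheme `S`, the map
`Γ(S, F) → Γ(S, i_* i⁻¹ F)` is bijective.
-/

set_option autoImplicit false

universe u

open CategoryTheory CategoryTheory.Limits AlgebraicGeometry Opposite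

namespace Groth.Agent.EtDescSS.HenselSect

open Groth.Agent.EtaleSite

variable {A : Type u} [CommRing A] [HenselianLocalRing A] {Z : Scheme.{u}}
  (i : Z ⟶ Spec (CommRingCat.of A)) [IsClosedImmersion i]
  (hi : Set.range i = {IsLocalRing.closedPoint A})

/-- A closed subset of a scheme universally closed over a local scheme meets the closed fibre. -/
theorem eq_univ_of_closedFibre {W : Scheme.{u}} (g : W ⟶ Spec (CommRingCat.of A)) [UniversallyClosed g]
    (O : Set W) (hO : IsOpen O) (h : ∀ w, g w = IsLocalRing.closedPoint A → w ∈ O) : O = Set.univ := by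
  by_contra hne
  obtain ⟨w, hw⟩ := (Set.ne_univ_iff_exists_notMem O).1 hne
  have hc : IsClosed (g '' Oᶜ) := g.isClosedMap _ hO.isClosed_compl
  obtain ⟨w', hw', he⟩ := (IsLocalRing.specializes_closedPoint (g w)).mem_closed hc ⟨w, hw, rfl⟩
  exact hw' (h w' he)

include hi in
/-- A section on a universally closed neighbourhood killed by the unit is zero. -/
theorem eq_zero (F : EtCoh.Ab (Spec (CommRingCat.of A))) (W : (Spec (CommRingCat.of A)).Etale)
    [UniversallyClosed W.hom] (s : F.obj.obj (op W))
    (hs : ((EtCoh.pullPushAdj i).unit.app F).hom.app (op W) s = 0) : s = 0 := by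
  let O : Set W.left := ⋃ (V : (Spec (CommRingCat.of A)).Etale) (g : V ⟶ W)
    (_ : F.obj.map g.op s = 0), Set.range g.left
  have hO : IsOpen O := isOpen_iUnion fun V => isOpen_iUnion fun g => isOpen_iUnion fun _ => by
    have : Etale g.left :=
      MorphismProperty.of_postcomp (W := @AlgebraicGeometry.Etale) (W' := @AlgebraicGeometry.Etale)
        g.left W.hom W.prop ((MorphismProperty.Over.w g).symm ▸ V.prop)
    exact g.left.isOpenMap.isOpen_range
  have hall : O = Set.univ := by
    refine eq_univ_of_closedFibre W.hom O hO fun w hw => ?_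
    let ζ := geomPointAt W.left w
    let ξ := ζ ≫ W.hom
    let x : (Scheme.pointSmallEtale ξ).fiber.obj W := Over.homMk ζ rfl
    have hξ : ξ default ∈ Set.range i := by
      refine hi.symm ▸ ?_
      exact (congrArg W.hom (geomPointAt_apply W.left w _)).trans hw
    haveI := isIso_stalk_unit_push i F ξ hξ
    have h0 : germ ξ F W x s = germ ξ F W x 0 := by
      rw [map_zero]
      apply (ConcreteCategory.bijective_of_isIso
        ((EtCoh.stalk ξ).map ((EtCoh.pullPushAdj i).unit.app F))).1
      refine (germ_naturality ξ _ W x s).trans ?_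
      rw [hs, map_zero]
      exact (map_zero _).symm
    obtain ⟨V, g, y, hy, e⟩ := (germ_eq_iff ξ F W x s 0).1 h0
    rw [map_zero] at e
    refine Set.mem_iUnion.2 ⟨V, Set.mem_iUnion.2 ⟨g, Set.mem_iUnion.2 ⟨e, y.left (default : Spec (CommRingCat.of _)), ?_⟩⟩⟩
    exact (congrArg (fun t => t.left (default : Spec (CommRingCat.of _))) hy).trans
      (geomPointAt_apply W.left w _)
  have hS : Presheaf.equalizerSieve (F := F.obj) s 0 ∈
      (Spec (CommRingCat.of A)).smallEtaleTopology W := by
    refine mem_topology_of_forall_exists _ fun w => ?_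
    have hw : w ∈ O := hall ▸ Set.mem_univ w
    simp only [O, Set.mem_iUnion, Set.mem_range] at hw
    obtain ⟨V, g, e, v, hv⟩ := hw
    exact ⟨V, g, v, e.trans (map_zero _).symm, hv⟩
  exact F.property.isSeparated _ _ hS s 0 fun V g hg => hg

include hi in
/-- Global sections of `i_* i⁻¹ F` lift. -/
theorem exists_lift (F : EtCoh.Ab (Spec (CommRingCat.of A)))
    (t : ((EtCoh.push i).obj ((EtCoh.pull i).obj F)).obj.obj
      (op (EtCoh.top (Spec (CommRingCat.of A))))) :
    ∃ s, ((EtCoh.pullPushAdj i).unit.app F).hom.app (op (EtCoh.top (Spec (CommRingCat.of A)))) s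
      = t := by
  let S := Spec (CommRingCat.of A)
  let η := (EtCoh.pullPushAdj i).unit.app F
  let R : EtCoh.Ab S := (EtCoh.push i).obj ((EtCoh.pull i).obj F)
  let ξ := geomPointAt S (IsLocalRing.closedPoint A)
  let x₀ : (Scheme.pointSmallEtale ξ).fiber.obj (EtCoh.top S) := Over.homMk ξ (Category.comp_id _)
  have hξ : ξ default = IsLocalRing.closedPoint A := geomPointAt_apply _ _ _
  haveI := isIso_stalk_unit_push i F ξ (hi.symm ▸ hξ)
  obtain ⟨p, hp⟩ := (ConcreteCategory.bijective_of_isIso ((EtCoh.stalk ξ).map η)).2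
    (germ ξ R (EtCoh.top S) x₀ t)
  obtain ⟨U, x, s, rfl⟩ := exists_germ_eq ξ F p
  let u : U ⟶ EtCoh.top S := MorphismProperty.Over.homMk U.hom (Category.comp_id _)
  have hx₀ : (Scheme.pointSmallEtale ξ).fiber.map u x = x₀ :=
    Over.OverMorphism.ext (Over.w x)
  have hp' : germ ξ R U x (η.hom.app (op U) s) = germ ξ R U x (R.obj.map u.op t) := by
    refine ((germ_naturality ξ η U x s).symm.trans hp).trans ?_
    rw [← hx₀]
    exact (germ_res ξ R u x t).symm
  obtain ⟨V, g, y, hy, e⟩ := (germ_eq_iff ξ R U x _ _).1 hp' 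
  have hv : V.hom (y.left (default : Spec (CommRingCat.of _))) = IsLocalRing.closedPoint A :=
    (congrArg (fun k => k (default : Spec (CommRingCat.of _))) (Over.w y)).trans hξ
  haveI : Etale V.hom := V.prop
  obtain ⟨R', _, π, l, hπf, hπe, hπs, hl⟩ := HenselLift.exists_finite_etale V.hom _ hv
  let W : S.Etale := Scheme.Etale.mk π
  let lw : W ⟶ V := MorphismProperty.Over.homMk l hl
  let w : W ⟶ EtCoh.top S := MorphismProperty.Over.homMk π (Category.comp_id _)
  let s' := F.obj.map (lw ≫ g).op s
  have hs' : η.hom.app (op W) s' = R.obj.map w.op t := by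
    have e1 : η.hom.app (op W) s' = R.obj.map (lw ≫ g).op (η.hom.app (op U) s) :=
      NatTrans.naturality_apply η.hom (lw ≫ g).op s
    have e2 : w = (lw ≫ g) ≫ u := (EtCore.topIsTerminal S).hom_ext _ _
    rw [e1, e2]
    simp only [op_comp, Functor.map_comp, ConcreteCategory.comp_apply]
    exact congrArg (R.obj.map lw.op) e
  have hsheaf : (Presieve.ofArrows (fun _ : PUnit.{1} => W) fun _ => w).IsSheafFor
      (F.obj ⋙ forget AddCommGrpCat.{u + 1}) := by
    rw [Presieve.isSheafFor_iff_generate]
    refine isSheaf_forget F _ (mem_topology_of_forall_exists _ fun z => ?_)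
    obtain ⟨v, hv⟩ := π.surjective z
    exact ⟨W, w, v, Sieve.le_generate _ _ _ (Presieve.ofArrows.mk PUnit.unit), hv⟩
  rw [Presieve.isSheafFor_arrows_iff] at hsheaf
  obtain ⟨r, hr, -⟩ := hsheaf (fun _ => s') fun _ _ Z' g₁ g₂ hg => by
    let P : S.Etale := Scheme.Etale.mk (pullback.fst π π ≫ π)
    let p₁ : P ⟶ W := MorphismProperty.Over.homMk (pullback.fst π π) rfl
    let p₂ : P ⟶ W := MorphismProperty.Over.homMk (pullback.snd π π) pullback.condition.symm
    let m : Z' ⟶ P := MorphismProperty.Over.homMk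
      (pullback.lift g₁.left g₂.left
        ((MorphismProperty.Over.w g₁).trans (MorphismProperty.Over.w g₂).symm))
      ((pullback.lift_fst_assoc _ _ _ _).trans (MorphismProperty.Over.w g₁))
    have h₁ : m ≫ p₁ = g₁ := MorphismProperty.Over.Hom.ext (pullback.lift_fst _ _ _)
    have h₂ : m ≫ p₂ = g₂ := MorphismProperty.Over.Hom.ext (pullback.lift_snd _ _ _)
    haveI : UniversallyClosed P.hom :=
      inferInstanceAs (UniversallyClosed (pullback.fst π π ≫ π))
    have hz : F.obj.map p₁.op s' - F.obj.map p₂.op s' = 0 := by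
      refine eq_zero i hi F P _ ?_
      refine ((map_sub _ _ _).trans (congrArg₂ (· - ·) (NatTrans.naturality_apply η.hom p₁.op s')
        (NatTrans.naturality_apply η.hom p₂.op s'))).trans ?_
      rw [hs', sub_eq_zero]
      refine (ConcreteCategory.congr_hom ((R.obj.map_comp w.op p₁.op).symm.trans
        ((congrArg (fun k => R.obj.map k) ?_).trans (R.obj.map_comp w.op p₂.op))) t)
      exact congrArg Quiver.Hom.op ((EtCore.topIsTerminal S).hom_ext (p₁ ≫ w) (p₂ ≫ w))
    show F.obj.map g₁.op s' = F.obj.map g₂.op s'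
    rw [← h₁, ← h₂, op_comp, op_comp, Functor.map_comp, Functor.map_comp]
    exact congrArg (F.obj.map m.op) (sub_eq_zero.1 hz)
  refine ⟨r, ?_⟩
  have hS : Presheaf.equalizerSieve (F := R.obj) (η.hom.app _ r) t ∈
      S.smallEtaleTopology (EtCoh.top S) := by
    refine mem_topology_of_forall_exists _ fun z => ?_
    obtain ⟨v, hv⟩ := π.surjective z
    refine ⟨W, w, v, ?_, hv⟩
    show R.obj.map w.op (η.hom.app _ r) = R.obj.map w.op t
    rw [← NatTrans.naturality_apply, ← hs']
    exact congrArg (η.hom.app (op W)) (hr PUnit.unit)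
  exact R.property.isSeparated _ _ hS _ _ fun V g hg => hg

include hi in
/-- **`Γ(S, F) → Γ(S, i_* i⁻¹ F)` is bijective.** -/
theorem bijective_comp_zero (F : EtCoh.Ab (Spec (CommRingCat.of A))) :
    Function.Bijective (fun e : EtCoh.H (Spec (CommRingCat.of A)) F 0 =>
      e.comp (Abelian.Ext.mk₀ ((EtCoh.pullPushAdj i).unit.app F)) (add_zero 0)) := by
  let S := Spec (CommRingCat.of A)
  let η := (EtCoh.pullPushAdj i).unit.app F
  have hsec : Function.Bijective (η.hom.app (op (EtCoh.top S))) := by
    refine ⟨(injective_iff_map_eq_zero _).2 fun s hs => ?_, exists_lift i hi F⟩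
    haveI : UniversallyClosed (EtCoh.top S).hom := inferInstanceAs (UniversallyClosed (𝟙 S))
    exact eq_zero i hi F _ s hs
  haveI : IsIso ((EtCore.gsec S).map η) := (ConcreteCategory.isIso_iff_bijective _).2 hsec
  have hhom : Function.Bijective (fun f : EtCoh.const S ℤ ⟶ F => f ≫ η) := by
    have hcomp : Function.Bijective (fun g : AddCommGrpCat.of (ULift.{u + 1} ℤ) ⟶ (EtCore.gsec S).obj F =>
        g ≫ (EtCore.gsec S).map η) :=
      Function.bijective_iff_has_inverse.2
        ⟨fun g => g ≫ inv ((EtCore.gsec S).map η), fun g => by simp, fun g => by simp⟩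
    have e : (fun f : EtCoh.const S ℤ ⟶ F => f ≫ η) =
        ((EtCore.constAdj S).homEquiv _ _).symm ∘
          (fun g => g ≫ (EtCore.gsec S).map η) ∘ (EtCore.constAdj S).homEquiv _ _ := by
      funext f
      simp only [Function.comp_apply, ← Adjunction.homEquiv_naturality_right, Equiv.symm_apply_apply]
    rw [e]
    exact ((EtCore.constAdj S).homEquiv _ _).symm.bijective.comp
      (hcomp.comp ((EtCore.constAdj S).homEquiv _ _).bijective)
  have e : (fun e : EtCoh.H S F 0 => e.comp (Abelian.Ext.mk₀ η) (add_zero 0)) =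
      Abelian.Ext.homEquiv₀.symm ∘ (fun f => f ≫ η) ∘ Abelian.Ext.homEquiv₀ := by
    funext x
    obtain ⟨f, rfl⟩ := Abelian.Ext.homEquiv₀.symm.surjective x
    simp only [Function.comp_apply, Equiv.apply_symm_apply]
    exact Abelian.Ext.mk₀_comp_mk₀ f η
  rw [e]
  exact Abelian.Ext.homEquiv₀.symm.bijective.comp (hhom.comp Abelian.Ext.homEquiv₀.bijective)

end Groth.Agent.EtDescSS.HenselSect
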