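import Groth.Agent.RDerLES
import Groth.Agent.CohTop.Descent.TotExact
import Mathlib.Algebra.Category.Grp.Abelian

/-!
# The spectral sequence of a resolution

For an exact complex `0 → M → A⁰ → A¹ → ⋯` and an additive functor `G` to abelian groups, a
spectral sequence `E₁^{p,q} = (R^q G)(A^p) ⇒ (R^n G)(M)`, built from horseshoe resolutions of the
short exact sequences of cycles.
-/

set_option autoImplicit false

universe w v u

open CategoryTheory CategoryTheory.Limits

namespace Groth.Agent.EtDescSS.Resolution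

open Groth.Agent.CohTop.Descent

variable {C : Type u} [Category.{v} C] [Abelian C] [HasInjectiveResolutions C]
  (A : CochainComplex C ℕ)

/-- The sequence of cycles `Z^p → A^p → Z^{p+1}`. -/
noncomputable def sc (p : ℕ) : ShortComplex C :=
  ShortComplex.mk (A.iCycles p) (A.toCycles p (p + 1)) (by
    rw [← cancel_mono (A.iCycles (p + 1)), Category.assoc, HomologicalComplex.toCycles_i,
      HomologicalComplex.iCycles_d, zero_comp])

variable {A}

theorem aux (p : ℕ) {W : C} (k : W ⟶ A.X p) (hk : k ≫ A.toCycles p (p + 1) = 0) :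
    k ≫ A.d p (p + 1) = 0 := by
  rw [← A.toCycles_i p (p + 1), reassoc_of% hk, zero_comp]

variable (hA : ∀ p, A.ExactAt (p + 1))

include hA in
theorem sc_shortExact (p : ℕ) : (sc A p).ShortExact := by
  have hepi : Epi (A.toCycles p (p + 1)) := by
    have hz := (HomologicalComplex.exactAt_iff_isZero_homology _ _).1 (hA p)
    have hc := A.homologyIsCokernel p (p + 1) (by simp)
    exact Preadditive.epi_of_isZero_cokernel' _ hc hz
  have : Mono (sc A p).f := inferInstanceAs (Mono (A.iCycles p))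
  have : Epi (sc A p).g := hepi
  refine ShortComplex.ShortExact.mk (ShortComplex.exact_of_f_is_kernel _ ?_)
  exact KernelFork.IsLimit.ofι' (A.iCycles p) (sc A p).zero fun {W} k hk =>
    ⟨A.liftCycles k (p + 1) (by simp) (aux p k hk), A.liftCycles_i k (p + 1) (by simp) _⟩

/-- An injective resolution of the cycles. -/
noncomputable def IZ (p : ℕ) : InjectiveResolution (A.cycles p) := injectiveResolution _

/-- The horseshoe resolution of `A^p`. -/
noncomputable def T (p : ℕ) : RDer.SESRes (sc A p) :=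
  Groth.Agent.RDerLES.horseshoe (sc_shortExact hA p) (IZ p) (IZ (p + 1))

/-- The resolving complexes. -/
noncomputable def J (p : ℕ) : CochainComplex C ℕ := (T hA p).I₂.cocomplex

/-- The inclusion of the resolution of the cycles. -/
noncomputable def jf (p : ℕ) : (IZ (A := A) p).cocomplex ⟶ J hA p := (T hA p).f

/-- The projection on the resolution of the next cycles. -/
noncomputable def jg (p : ℕ) : J hA p ⟶ (IZ (A := A) (p + 1)).cocomplex := (T hA p).g

/-- The differential between the resolving complexes. -/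
noncomputable def dJ (p : ℕ) : J hA p ⟶ J hA (p + 1) := jg hA p ≫ jf hA (p + 1)

theorem jf_jg (p : ℕ) : jf hA p ≫ jg hA p = 0 := (T hA p).zero

theorem jg_jg_comp (p : ℕ) : dJ hA p ≫ dJ hA (p + 1) = 0 := by
  simp only [dJ, Category.assoc, ← Category.assoc (jf hA (p + 1)), jf_jg, zero_comp, comp_zero]

/-- The double complex before applying the functor. -/
noncomputable def bicx : CochainComplex (CochainComplex C ℕ) ℕ :=
  CochainComplex.of (J hA) (dJ hA) (jg_jg_comp hA)

theorem bicx_d (p : ℕ) : (bicx hA).d p (p + 1) = dJ hA p := CochainComplex.of_d _ (dJ hA) p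

variable (G : C ⥤ AddCommGrpCat.{w}) [G.Additive]

/-- The double complex. -/
noncomputable def dbl : CochainComplex (CochainComplex AddCommGrpCat.{w} ℕ) ℕ :=
  ((G.mapHomologicalComplex (ComplexShape.up ℕ)).mapHomologicalComplex _).obj (bicx hA)

theorem dbl_d (p q : ℕ) :
    ((dbl hA G).d p (p + 1)).f q = G.map ((jg hA p).f q) ≫ G.map ((jf hA (p + 1)).f q) := by
  show G.map (((bicx hA).d p (p + 1)).f q) = _
  rw [bicx_d, ← G.map_comp]
  rfl

theorem split (p q : ℕ) : Nonempty ((ShortComplex.mk ((jf hA p).f q) ((jg hA p).f q)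
    (by rw [← HomologicalComplex.comp_f, jf_jg, HomologicalComplex.zero_f])).Splitting) :=
  ⟨{ r := biprod.fst
     s := biprod.inr
     f_r := biprod.inl_fst
     s_g := biprod.inr_snd
     id := biprod.total }⟩

theorem map_jf_injective (p q : ℕ) : Function.Injective (G.map ((jf hA p).f q)) := by
  obtain ⟨σ⟩ := split hA p q
  exact Function.LeftInverse.injective (g := G.map σ.r) fun x => by
    rw [← ConcreteCategory.comp_apply, ← G.map_comp, σ.f_r, G.map_id, ConcreteCategory.id_apply]

theorem map_jg_surjective (p q : ℕ) : Function.Surjective (G.map ((jg hA p).f q)) := by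
  obtain ⟨σ⟩ := split hA p q
  exact Function.RightInverse.surjective (g := G.map σ.s) fun x => by
    rw [← ConcreteCategory.comp_apply, ← G.map_comp, σ.s_g, G.map_id, ConcreteCategory.id_apply]

theorem exists_of_map_jg_eq_zero (p q : ℕ) (z : G.obj ((J hA p).X q))
    (hz : G.map ((jg hA p).f q) z = 0) : ∃ y, G.map ((jf hA p).f q) y = z := by
  obtain ⟨σ⟩ := split hA p q
  have h := (σ.map G).exact
  rw [ShortComplex.ab_exact_iff] at h
  exact h z hz

/-- The augmentation of the double complex. -/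
noncomputable def aug :
    (G.mapHomologicalComplex (ComplexShape.up ℕ)).obj (IZ (A := A) 0).cocomplex ⟶ (dbl hA G).X 0 :=
  (G.mapHomologicalComplex (ComplexShape.up ℕ)).map (jf hA 0)

theorem nonempty_tot_iso (k : ℕ) :
    Nonempty ((TotCx.tot (dbl hA G)).homology (k : ℤ) ≅ (G.rightDerived k).obj (A.cycles 0)) := by
  have ha : ∀ q y, ((dbl hA G).d 0 1).f q ((aug hA G).f q y) = 0 := fun q y => by
    rw [dbl_d]
    show G.map ((jf hA 1).f q) (G.map ((jg hA 0).f q) (G.map ((jf hA 0).f q) y)) = 0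
    rw [← ConcreteCategory.comp_apply (G.map _) (G.map ((jg hA 0).f q)), ← G.map_comp,
      ← HomologicalComplex.comp_f, jf_jg, HomologicalComplex.zero_f, G.map_zero]
    simp
  obtain ⟨e⟩ := TotExact.nonempty_homology_iso (K := dbl hA G)
    (fun p q z hz => by
      rw [dbl_d] at hz
      obtain ⟨y, hy⟩ := exists_of_map_jg_eq_zero hA G (p + 1) q z
        (map_jf_injective hA G (p + 1 + 1) q (hz.trans (map_zero _).symm))
      obtain ⟨w, hw⟩ := map_jg_surjective hA G p q y
      refine ⟨w, ?_⟩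
      rw [dbl_d]
      show G.map ((jf hA (p + 1)).f q) (G.map ((jg hA p).f q) w) = z
      rw [hw, hy])
    _ (aug hA G) ha (fun q => map_jf_injective hA G 0 q)
    (fun q z hz => by
      rw [dbl_d] at hz
      exact exists_of_map_jg_eq_zero hA G 0 q z
        (map_jf_injective hA G 1 q (hz.trans (map_zero _).symm))) k
  exact ⟨e ≪≫ ((IZ (A := A) 0).isoRightDerivedObj G k).symm⟩

theorem nonempty_col_iso (p q : ℕ) :
    Nonempty (((dbl hA G).X p).homology q ≅ (G.rightDerived q).obj (A.X p)) :=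
  ⟨((T hA p).I₂.isoRightDerivedObj G q).symm⟩

include hA in
/-- **The spectral sequence of a resolution.** -/
theorem exists_ss {M : C} (eM : A.cycles 0 ≅ M) (H : ℕ → AddCommGrpCat.{w})
    (eH : ∀ n, Nonempty ((G.rightDerived n).obj M ≅ H n)) (E₁ : ℕ → ℕ → AddCommGrpCat.{w})
    (eE : ∀ p q, Nonempty ((G.rightDerived q).obj (A.X p) ≅ E₁ p q)) :
    ∃ (E : CohomologicalSpectralSequence AddCommGrpCat.{w} 1)
      (a : SpSeq.Abutment E (fun n : ℤ =>
        if 0 ≤ n then H n.toNat else AddCommGrpCat.of PUnit.{w + 1})),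
      (∀ n, a.IsFinite n) ∧ SpSeq.IsBounded E ∧
      ∀ p q : ℤ, Nonempty ((E.page 1 le_rfl).X (p, q) ≅
        (if 0 ≤ p ∧ 0 ≤ q then E₁ p.toNat q.toNat else AddCommGrpCat.of PUnit.{w + 1})) := by
  have htot : ∀ n : ℤ, Nonempty ((TotCx.tot (dbl hA G)).homology n ≅
      if 0 ≤ n then H n.toNat else AddCommGrpCat.of PUnit.{w + 1}) := by
    intro n
    by_cases hn : 0 ≤ n
    · obtain ⟨k, rfl⟩ := Int.eq_ofNat_of_zero_le hn
      obtain ⟨e₁⟩ := nonempty_tot_iso hA G k
      obtain ⟨e₂⟩ := eH k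
      exact ⟨e₁ ≪≫ (G.rightDerived k).mapIso eM ≪≫ e₂ ≪≫
        eqToIso (by rw [if_pos hn, Int.toNat_natCast k])⟩
    · rw [if_neg hn]
      exact ⟨(TotExact.isZero_homology_of_neg (by omega)).iso
        (AddCommGrpCat.isZero_of_subsingleton _)⟩
  obtain ⟨a, ha⟩ := TotCx.exists_abutment (dbl hA G) _ fun n => (htot n).some
  refine ⟨TotCx.ss (dbl hA G), a, ha, TotCx.isBounded_ss _, fun p q => ?_⟩
  by_cases hpq : 0 ≤ p ∧ 0 ≤ q
  · rw [if_pos hpq]
    obtain ⟨p, rfl⟩ := Int.eq_ofNat_of_zero_le hpq.1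
    obtain ⟨q, rfl⟩ := Int.eq_ofNat_of_zero_le hpq.2
    obtain ⟨e₁⟩ := TotCx.nonempty_page_one_iso (dbl hA G) p q
    obtain ⟨e₂⟩ := nonempty_col_iso hA G p q
    obtain ⟨e₃⟩ := eE p q
    exact ⟨e₁ ≪≫ e₂ ≪≫ e₃⟩
  · rw [if_neg hpq]
    exact ⟨(TotCx.isZero_page_one _ p q hpq).iso (AddCommGrpCat.isZero_of_subsingleton _)⟩

end Groth.Agent.EtDescSS.Resolution
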